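import Groth.Prelude.Def_CAlg
import Mathlib.Algebra.Category.ModuleCat.Ext.HasExt
import Mathlib.Algebra.Category.ModuleCat.Projective
import Mathlib.Algebra.Category.ModuleCat.Injective
import Mathlib.Algebra.Homology.ShortComplex.ModuleCat
import Mathlib.Algebra.Category.ModuleCat.InjectiveDimension
import Mathlib.Algebra.Homology.DerivedCategory.Ext.Linear
import Mathlib.Algebra.Homology.DerivedCategory.Ext.ExactSequences
import Mathlib.Algebra.Homology.DerivedCategory.Ext.EnoughProjectives
import Mathlib.CategoryTheory.Abelian.Injective.Dimension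
import Mathlib.RingTheory.FiniteLength
import Mathlib.RingTheory.Artinian.Ring

/-!
# Socles modulo a regular element in Gorenstein local rings
-/

namespace Groth.Agent.SegreOne

open CategoryTheory CategoryTheory.Abelian

universe u

variable {A : Type u} [CommRing A]

/-- The short exact sequence of a submodule. -/
noncomputable abbrev subSeq {M : Type u} [AddCommGroup M] [Module A M] (N : Submodule A M) :
    ShortComplex (ModuleCat.{u} A) :=
  ShortComplex.mk (ModuleCat.ofHom N.subtype) (ModuleCat.ofHom N.mkQ) (by ext x; simp)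

theorem subSeq_shortExact {M : Type u} [AddCommGroup M] [Module A M] (N : Submodule A M) :
    (subSeq N).ShortExact :=
  { exact := by
      rw [ShortComplex.moduleCat_exact_iff]
      intro x hx
      exact ⟨⟨x, (Submodule.Quotient.mk_eq_zero N).1 hx⟩, rfl⟩
    mono_f := (ModuleCat.mono_iff_injective _).2 N.injective_subtype
    epi_g := (ModuleCat.epi_iff_surjective _).2 N.mkQ_surjective }

theorem subsingleton_ext_of_isFiniteLength [IsLocalRing A] {X : ModuleCat.{u} A} {n : ℕ}
    (hk : Subsingleton (Ext.{u} (ModuleCat.of A (IsLocalRing.ResidueField A)) X n))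
    {M : Type u} [AddCommGroup M] [Module A M] (hM : IsFiniteLength A M) :
    Subsingleton (Ext.{u} (ModuleCat.of A M) X n) := by
  suffices h : ∀ x : Ext.{u} (ModuleCat.of A M) X n, x = 0 from ⟨fun a b => (h a).trans (h b).symm⟩
  induction hM with
  | of_subsingleton =>
    intro x
    rw [← Ext.mk₀_id_comp x, (ModuleCat.isZero_of_subsingleton _).eq_of_src (𝟙 _) 0, Ext.mk₀_zero,
      Ext.zero_comp]
  | @of_simple_quotient M _ _ N _ _ ih =>
    intro x
    obtain ⟨m, hm, ⟨e⟩⟩ := isSimpleModule_iff_quot_maximal.1 (inferInstance : IsSimpleModule A (M ⧸ N))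
    obtain rfl := IsLocalRing.eq_maximalIdeal hm
    have hq : Subsingleton (Ext.{u} (subSeq N).X₃ X n) := by
      refine ⟨fun a b => ?_⟩
      have key : ∀ y : Ext.{u} (subSeq N).X₃ X n, y = 0 := fun y => by
        have h1 : (Ext.mk₀ e.toModuleIso.inv).comp y (zero_add n) = 0 :=
          @Subsingleton.elim _ hk _ _
        rw [← Ext.mk₀_id_comp y, ← e.toModuleIso.hom_inv_id, ← Ext.mk₀_comp_mk₀,
          Ext.comp_assoc_of_second_deg_zero, h1, Ext.comp_zero]
      exact (key a).trans (key b).symm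
    obtain ⟨y, hy⟩ := Ext.contravariant_sequence_exact₂ (subSeq_shortExact N) X x (ih _)
    rw [← hy, hq.elim y 0, Ext.comp_zero]

/-- In a Gorenstein local ring the socle modulo a regular element whose quotient has finite length is
cyclic. -/
theorem exists_smul_eq_of_mem_socle [LocCoh.IsGorensteinLocalRing A] {a : A} (ha : a ∈ nonZeroDivisors A)
    (hlen : IsFiniteLength A (A ⧸ Ideal.span {a})) {u v : A ⧸ Ideal.span {a}} (hu : u ≠ 0)
    (hus : ∀ x ∈ IsLocalRing.maximalIdeal A, x • u = 0)
    (hvs : ∀ x ∈ IsLocalRing.maximalIdeal A, x • v = 0) : ∃ b : A, b • u = v := by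
  have hker : ∀ w : (A ⧸ Ideal.span {a}), (∀ x ∈ IsLocalRing.maximalIdeal A, x • w = 0) →
      ∃ φ : (IsLocalRing.ResidueField A) →ₗ[A] (A ⧸ Ideal.span {a}), φ 1 = w := fun w hw =>
    ⟨(IsLocalRing.maximalIdeal A).liftQ (LinearMap.toSpanSingleton A (A ⧸ Ideal.span {a}) w) (fun x hx => hw x hx),
      one_smul A w⟩
  obtain ⟨ι, hι⟩ := hker u hus
  obtain ⟨φ, hφ⟩ := hker v hvs
  have hinj : Function.Injective ι := by
    rw [← LinearMap.ker_eq_bot, eq_bot_iff]
    intro z hz
    obtain ⟨z, rfl⟩ := IsLocalRing.residue_surjective z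
    by_contra h
    have hu' : IsUnit z := IsLocalRing.notMem_maximalIdeal.1 fun h' => h (by
      rw [Submodule.mem_bot]; exact (IsLocalRing.residue_eq_zero_iff z).2 h')
    have h1 : z • ι 1 = 0 := by
      rw [← map_smul, Algebra.smul_def, mul_one]; exact hz
    exact hu (by rw [← hι]; exact hu'.smul_eq_zero.1 h1)
  obtain ⟨n, hn⟩ := LocCoh.IsGorensteinLocalRing.exists_hasInjectiveDimensionLT (A := A)
  let AA := ModuleCat.of A A
  -- `0 → A → A → (A ⧸ Ideal.span {a}) → 0`
  let ma : A →ₗ[A] A := LinearMap.toSpanSingleton A A a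
  let S : ShortComplex (ModuleCat.{u} A) := ShortComplex.mk (ModuleCat.ofHom ma)
    (ModuleCat.ofHom (Ideal.span {a} : Ideal A).mkQ) (by
      ext
      simp only [ModuleCat.hom_comp, ModuleCat.hom_ofHom, LinearMap.comp_apply, ma,
        LinearMap.toSpanSingleton_apply, one_smul, ModuleCat.hom_zero, LinearMap.zero_apply,
        Submodule.mkQ_apply, Submodule.Quotient.mk_eq_zero]
      exact Ideal.mem_span_singleton_self a)
  have hS : S.ShortExact :=
    { exact := by
        rw [ShortComplex.moduleCat_exact_iff]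
        intro x hx
        obtain ⟨c, hc⟩ := Ideal.mem_span_singleton'.1 ((Submodule.Quotient.mk_eq_zero _).1 hx)
        exact ⟨c, hc⟩
      mono_f := (ModuleCat.mono_iff_injective _).2 fun x y h => by
        have h' : (x - y) * a = 0 := by rw [sub_mul]; exact sub_eq_zero.2 h
        exact sub_eq_zero.1 (mem_nonZeroDivisors_iff_right.1 ha _ h')
      epi_g := (ModuleCat.epi_iff_surjective _).2 (Submodule.mkQ_surjective _) }
  let S' := subSeq (LinearMap.range ι)
  have hS' := subSeq_shortExact (LinearMap.range ι)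
  have hQsub : IsFiniteLength A ((A ⧸ Ideal.span {a}) ⧸ LinearMap.range ι) := by
    rw [isFiniteLength_iff_isNoetherian_isArtinian] at hlen ⊢
    obtain ⟨_, _⟩ := hlen
    exact ⟨inferInstance, inferInstance⟩
  let eι : ModuleCat.of A (IsLocalRing.ResidueField A) ≅ S'.X₁ := (LinearEquiv.ofInjective ι hinj).toModuleIso
  -- surjectivity of restriction along `ι`
  have hres : ∀ i, Subsingleton (Ext.{u} (ModuleCat.of A (IsLocalRing.ResidueField A)) AA (i + 1)) → ∀ y : Ext.{u} (ModuleCat.of A (IsLocalRing.ResidueField A)) AA i,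
      ∃ z : Ext.{u} (ModuleCat.of A (A ⧸ Ideal.span {a})) AA i, (Ext.mk₀ (ModuleCat.ofHom ι)).comp z (zero_add i) = y := by
    intro i hi y
    have hc := subsingleton_ext_of_isFiniteLength hi hQsub
    obtain ⟨z, hz⟩ := Ext.contravariant_sequence_exact₁ hS' AA ((Ext.mk₀ eι.inv).comp y (zero_add i))
      (add_comm 1 i) (@Subsingleton.elim _ hc _ _)
    refine ⟨z, ?_⟩
    have h : ModuleCat.ofHom ι = eι.hom ≫ S'.f := by ext x; rfl
    rw [h, ← Ext.mk₀_comp_mk₀, Ext.comp_assoc_of_second_deg_zero, hz, ← Ext.comp_assoc_of_second_deg_zero,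
      Ext.mk₀_comp_mk₀, Iso.hom_inv_id, Ext.mk₀_id_comp]
  have hvan : ∀ j i, n ≤ i + j → 2 ≤ i → Subsingleton (Ext.{u} (ModuleCat.of A (IsLocalRing.ResidueField A)) AA i) := by
    intro j
    induction j with
    | zero => intro i hi _; exact @HasInjectiveDimensionLT.subsingleton _ _ _ _ _ n hn i hi _
    | succ j ih =>
      intro i hi h2
      refine ⟨fun p q => ?_⟩
      have hzero : ∀ y : Ext.{u} (ModuleCat.of A (IsLocalRing.ResidueField A)) AA i, y = 0 := fun y => by
        obtain ⟨z, rfl⟩ := hres i (ih (i + 1) (by omega) (by omega)) y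
        obtain ⟨i', rfl⟩ : ∃ i', i = i' + 2 := ⟨i - 2, by omega⟩
        obtain ⟨w, hw⟩ := Ext.contravariant_sequence_exact₃ hS AA z (Ext.eq_zero_of_projective _)
          (show 1 + (i' + 1) = i' + 2 by omega)
        rw [← hw, Ext.eq_zero_of_projective w, Ext.comp_zero, Ext.comp_zero]
      exact (hzero p).trans (hzero q).symm
  obtain ⟨z, hz⟩ := hres 1 (hvan n 2 (by omega) le_rfl) ((Ext.mk₀ (ModuleCat.ofHom φ)).comp hS.extClass (zero_add 1))
  obtain ⟨w, hw⟩ := Ext.contravariant_sequence_exact₃ hS AA z (Ext.eq_zero_of_projective _) (show 1 + 0 = 1 by omega)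
  obtain ⟨g, rfl⟩ := (Ext.mk₀_bijective (C := ModuleCat.{u} A) _ _).2 w
  let b : A := g.hom 1
  have hg : g = b • 𝟙 AA := by
    refine ModuleCat.hom_ext (LinearMap.ext fun c => ?_)
    change g.hom c = b • c
    conv_lhs => rw [← mul_one c, ← smul_eq_mul, map_smul, smul_eq_mul, mul_comm]
    rfl
  refine ⟨b, ?_⟩
  have hzeq : z = b • hS.extClass := by
    rw [← hw, hg, Ext.mk₀_smul, Ext.comp_smul, Ext.comp_mk₀_id]
  have hdiff : (Ext.mk₀ (ModuleCat.ofHom φ - b • ModuleCat.ofHom ι)).comp hS.extClass (zero_add 1) = 0 := by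
    rw [sub_eq_add_neg, Ext.mk₀_add, ← neg_smul, Ext.mk₀_smul, Ext.add_comp, Ext.smul_comp, neg_smul, ← hz, hzeq,
      Ext.comp_smul]
    abel
  obtain ⟨x, hx⟩ := Ext.covariant_sequence_exact₃ (ModuleCat.of A (IsLocalRing.ResidueField A)) hS
    (Ext.mk₀ (ModuleCat.ofHom φ - b • ModuleCat.ofHom ι)) (zero_add 1) hdiff
  obtain ⟨h, rfl⟩ := (Ext.mk₀_bijective (C := ModuleCat.{u} A) _ _).2 x
  have h0 : h = 0 := by
    refine ModuleCat.hom_ext (LinearMap.ext fun c => ?_)
    change h.hom c = 0
    obtain ⟨c, rfl⟩ := IsLocalRing.residue_surjective c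
    have ha' : a ∈ IsLocalRing.maximalIdeal A := by
      by_contra hne
      refine hu ?_
      have : Subsingleton (A ⧸ Ideal.span {a}) := Ideal.Quotient.subsingleton_iff.2
        (Ideal.span_singleton_eq_top.2 (IsLocalRing.notMem_maximalIdeal.1 hne))
      exact Subsingleton.elim _ _
    have h1 : a • h.hom (IsLocalRing.residue A c) = 0 := by
      rw [← map_smul, Algebra.smul_def]
      change h.hom (IsLocalRing.residue A a * IsLocalRing.residue A c) = 0
      rw [(IsLocalRing.residue_eq_zero_iff a).2 ha', zero_mul, map_zero]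
    exact mem_nonZeroDivisors_iff_right.1 ha _ (by rw [mul_comm]; exact h1)
  rw [h0, Ext.mk₀_zero, Ext.zero_comp] at hx
  have hφι : ModuleCat.ofHom φ = b • ModuleCat.ofHom ι :=
    sub_eq_zero.1 ((Ext.mk₀_bijective _ _).1 (hx.symm.trans (Ext.mk₀_zero _ _).symm))
  have := congrArg (fun f => f.hom 1) hφι
  simp only [ModuleCat.hom_smul, ModuleCat.hom_ofHom, LinearMap.smul_apply] at this
  exact ((hι ▸ hφ ▸ this : v = b • u)).symm

attribute [local instance] RingHomInvPair.of_ringEquiv

theorem isGorensteinLocalRing_of_ringEquiv {A B : Type u} [CommRing A] [CommRing B]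
    [LocCoh.IsGorensteinLocalRing A] (e : A ≃+* B) : LocCoh.IsGorensteinLocalRing B := by
  have : IsNoetherianRing B := isNoetherianRing_of_ringEquiv A e
  have : IsLocalRing B := e.isLocalRing
  obtain ⟨n, hn⟩ := LocCoh.IsGorensteinLocalRing.exists_hasInjectiveDimensionLT (A := A)
  have hn' : HasInjectiveDimensionLE (ModuleCat.of A A) n := hasInjectiveDimensionLT_of_ge _ n (n + 1) (by omega)
  refine { exists_hasInjectiveDimensionLT := ⟨n + 1, ?_⟩ }
  let eA : A ≃ₛₗ[RingHomClass.toRingHom e] B := { e.toAddEquiv with map_smul' := fun r x => map_mul e r x }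
  exact (ModuleCat.hasInjectiveDimensionLE_iff_of_semiLinearEquiv (eR := e) (M := ModuleCat.of A A)
    (N := ModuleCat.of B B) eA n).1 hn'

theorem isGorensteinRing_of_ringEquiv {A B : Type u} [CommRing A] [CommRing B]
    [LocCoh.IsGorensteinRing A] (e : A ≃+* B) : LocCoh.IsGorensteinRing B := by
  have : IsNoetherianRing B := isNoetherianRing_of_ringEquiv A e
  refine { isGorensteinLocalRing_localization := fun p _ => ?_ }
  have := LocCoh.IsGorensteinRing.isGorensteinLocalRing_localization (A := A) (p.comap e.toRingHom)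
  refine isGorensteinLocalRing_of_ringEquiv (IsLocalization.ringEquivOfRingEquiv
    (M := (p.comap e.toRingHom).primeCompl) (T := p.primeCompl)
    (Localization.AtPrime (p.comap e.toRingHom)) (Localization.AtPrime p) e ?_)
  ext x
  simp only [Submonoid.mem_map, Ideal.mem_primeCompl_iff, Ideal.mem_comap]
  exact ⟨fun ⟨y, hy, hxy⟩ => hxy ▸ hy, fun h => ⟨e.symm x, by simpa using h, by simp⟩⟩

end Groth.Agent.SegreOne
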