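import Groth.Agent.SegreDim.SegreCor
import Groth.Agent.DepthLib.CohenMacaulay
import Groth.Agent.DepthLib.Localization
import Groth.Agent.SegreDim.Graded

/-!
# One-dimensional standard graded algebras
-/

namespace Groth.Agent.SegreOne

open DirectSum SegreDim LocCoh

universe u

/-- Associated primes of a Cohen–Macaulay ring are minimal. -/
theorem mem_minimalPrimes_of_mem_associatedPrimes {A : Type u} [CommRing A] [IsCohenMacaulayRing A]
    {p : Ideal A} (hp : p ∈ associatedPrimes A A) : p ∈ minimalPrimes A := by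
  have : p.IsPrime := IsAssociatedPrime.isPrime hp
  have := IsCohenMacaulayRing.isCohenMacaulayLocalRing_localization (R := A) p
  have hd := DepthLib.ringKrullDim_eq_depth (R := Localization.AtPrime p)
  rw [IsLocalization.AtPrime.ringKrullDim_eq_height p,
    DepthLib.depth_localization_eq_zero_of_mem_associatedPrimes (M := A) p hp] at hd
  have hh : p.height = 0 := WithBot.coe_inj.1 hd
  obtain ⟨q, hq, hqp⟩ := Ideal.exists_minimalPrimes_le (I := ⊥) (J := p) bot_le
  have := hq.isPrime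
  obtain rfl : q = p := eq_of_le_of_not_lt hqp fun hlt => by
    have := Ideal.height_add_one_le_of_lt_of_isPrime hlt
    rw [hh] at this
    simp at this
  exact hq

variable {k R : Type u} [Field k] [CommRing R] [Algebra k R] {𝒜 : ℤ → Submodule k R} [GradedAlgebra 𝒜]

theorem minimalPrime_le_pos (hA : IsStd 𝒜) {I P : Ideal R} (hI : I.IsHomogeneous 𝒜)
    (hP : P ∈ I.minimalPrimes) : P ≤ pos 𝒜 :=
  hA.le_pos (IsStd.isHomogeneous_of_minimal hI hP) hP.isPrime.ne_top

/-- A Cohen–Macaulay graded algebra of positive dimension has a homogeneous regular element. -/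
theorem exists_regular [IsCohenMacaulayRing R] (hA : IsStd 𝒜) (hdim : 1 ≤ ringKrullDim R) :
    ∃ (e : ℤ) (f : R), 0 < e ∧ f ∈ 𝒜 e ∧ f ∈ nonZeroDivisors R := by
  classical
  have hne : Nontrivial R := by
    by_contra h
    rw [not_nontrivial_iff_subsingleton] at h
    rw [ringKrullDim_eq_bot_of_subsingleton] at hdim
    simp at hdim
  have hmax := hA.isMaximal_pos
  have hfin := associatedPrimes.finite R R
  obtain ⟨f, e, he, hf, hav⟩ := hA.exists_avoid hfin.toFinset fun p hp => by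
    rw [Set.Finite.mem_toFinset] at hp
    have hmin := mem_minimalPrimes_of_mem_associatedPrimes hp
    have hhom := IsStd.isHomogeneous_of_minimal (Ideal.IsHomogeneous.bot 𝒜) hmin
    refine ⟨IsAssociatedPrime.isPrime hp, hhom, fun hle => ?_⟩
    have hpe : p = pos 𝒜 := ((hA.le_pos hhom (IsAssociatedPrime.isPrime hp).ne_top).antisymm hle)
    -- then every prime is the vertex
    have hall : ∀ Q : PrimeSpectrum R, Q.asIdeal = pos 𝒜 := fun Q => by
      obtain ⟨q, hq, hqQ⟩ := Ideal.exists_minimalPrimes_le (I := ⊥) (J := Q.asIdeal) bot_le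
      have hqp := minimalPrime_le_pos hA (Ideal.IsHomogeneous.bot 𝒜) hq
      have hq' : q = pos 𝒜 := hqp.antisymm (hpe ▸ hmin.2 hq.1 (hpe ▸ hqp))
      exact (hmax.eq_of_le Q.isPrime.ne_top (hq' ▸ hqQ)).symm
    have : Subsingleton (PrimeSpectrum R) :=
      ⟨fun a b => PrimeSpectrum.ext ((hall a).trans (hall b).symm)⟩
    have h0 : ringKrullDim R ≤ 0 := Order.krullDim_nonpos_of_subsingleton
    exact absurd (hdim.trans h0) (by decide)
  refine ⟨e, f, he, hf, mem_nonZeroDivisors_iff_right.2 fun x hx => ?_⟩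
  by_contra hx0
  have : f ∈ (⋃ p ∈ associatedPrimes R R, (p : Set R)) := by
    rw [biUnion_associatedPrimes_eq_zero_divisors]
    exact ⟨x, hx0, by rw [smul_eq_mul, mul_comm, hx]⟩
  obtain ⟨p, hp, hfp⟩ := Set.mem_iUnion₂.1 this
  exact hav p (hfin.mem_toFinset.2 hp) hfp

theorem pos_le_radical (hA : IsStd 𝒜) (hdim : ringKrullDim R ≤ 1) {e : ℤ} {f : R}
    (hf : f ∈ 𝒜 e) (hnz : f ∈ nonZeroDivisors R) [Nontrivial R] :
    pos 𝒜 ≤ (Ideal.span {f}).radical := by
  intro x hx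
  rw [Ideal.radical_eq_sInf, Submodule.mem_sInf]
  rintro Q ⟨hQ, hQp⟩
  obtain ⟨P, hP, hPQ⟩ := Ideal.exists_minimalPrimes_le (I := Ideal.span {f}) hQ
  have hPp := hP.isPrime
  have hhom : (Ideal.span {f}).IsHomogeneous 𝒜 :=
    Ideal.homogeneous_span _ _ fun y hy => ⟨e, (Set.mem_singleton_iff.1 hy) ▸ hf⟩
  have hle := minimalPrime_le_pos hA hhom hP
  refine hPQ ?_
  by_contra hxP
  obtain ⟨q, hq, hqP⟩ := Ideal.exists_minimalPrimes_le (I := ⊥) (J := P) bot_le
  have hqlt : q < P := lt_of_le_of_ne hqP fun h => by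
    have hfq : f ∈ q := h ▸ hP.le (Ideal.mem_span_singleton_self f)
    exact (Set.disjoint_left.1 (Ideal.disjoint_nonZeroDivisors_of_mem_minimalPrimes hq)) hfq hnz
  have hlt : P < pos 𝒜 := lt_of_le_not_ge hle fun h => hxP (h hx)
  have : (pos 𝒜).IsPrime := hA.isMaximal_pos.isPrime
  let l : LTSeries (PrimeSpectrum R) := ((RelSeries.singleton _ ⟨q, hq.isPrime⟩).snoc ⟨P, hPp⟩ hqlt).snoc
    ⟨pos 𝒜, hA.isMaximal_pos.isPrime⟩ (by rw [RelSeries.last_snoc]; exact hlt)
  have h2 := Order.LTSeries.length_le_krullDim l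
  have hl : l.length = 2 := rfl
  rw [hl] at h2
  exact absurd (h2.trans hdim) (by decide)

theorem piece_le_pos_pow (hstd : pos 𝒜 ≤ Ideal.span ((𝒜 1 : Submodule k R) : Set R)) (n : ℕ) :
    ∀ x ∈ 𝒜 (n : ℤ), x ∈ pos 𝒜 ^ n := by
  induction n with
  | zero => intro x _; simp
  | succ n ih =>
    intro x hx
    have h := le_span_one_mul hstd (Int.natCast_nonneg n) (by simpa using hx)
    clear hx
    induction h using Submodule.span_induction with
    | mem z hz =>
      obtain ⟨a, ha, r, hr, rfl⟩ := hz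
      rw [pow_succ']
      exact Ideal.mul_mem_mul (mem_pos one_pos ha) (ih r hr)
    | zero => exact zero_mem _
    | add a b _ _ ha hb => exact add_mem ha hb
    | smul c a _ ha => rw [Algebra.smul_def]; exact Ideal.mul_mem_left _ _ ha

/-- Multiplication by `f` is onto degree `n`. -/
def Full (𝒜 : ℤ → Submodule k R) (e : ℤ) (f : R) (n : ℤ) : Prop :=
  ∀ x ∈ 𝒜 n, ∃ y ∈ 𝒜 (n - e), f * y = x

theorem exists_full [IsNoetherianRing R] (hstd : pos 𝒜 ≤ Ideal.span ((𝒜 1 : Submodule k R) : Set R))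
    {e : ℤ} {f : R} (hf : f ∈ 𝒜 e) (hrad : pos 𝒜 ≤ (Ideal.span {f}).radical) :
    ∃ M : ℕ, ∀ n : ℤ, (M : ℤ) ≤ n → Full 𝒜 e f n := by
  obtain ⟨M, hM⟩ := Ideal.exists_pow_le_of_le_radical_of_fg hrad (IsNoetherian.noetherian _)
  refine ⟨M, fun n hn x hx => ?_⟩
  obtain ⟨n, rfl⟩ : ∃ j : ℕ, n = (j : ℤ) := ⟨n.toNat, by omega⟩
  obtain ⟨y, hy⟩ := Ideal.mem_span_singleton.1 (hM (Ideal.pow_le_pow_right (by omega)
    (piece_le_pos_pow hstd n x hx)))
  refine ⟨(decompose 𝒜 y ((n : ℤ) - e) : R), Submodule.coe_mem _, ?_⟩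
  rw [← proj_mul y hf, ← hy, decompose_of_mem_same 𝒜 hx]

theorem Full.succ (hstd : pos 𝒜 ≤ Ideal.span ((𝒜 1 : Submodule k R) : Set R)) {e : ℤ} {f : R}
    {n : ℤ} (h : Full 𝒜 e f n) (hn : 0 ≤ n) : Full 𝒜 e f (n + 1) := by
  intro x hx
  have hx' := le_span_one_mul hstd hn hx
  clear hx
  induction hx' using Submodule.span_induction with
  | mem z hz =>
    obtain ⟨a, ha, r, hr, rfl⟩ := hz
    obtain ⟨y, hy, rfl⟩ := h r hr
    exact ⟨a * y, by simpa [show n + 1 - e = 1 + (n - e) by ring] using SetLike.mul_mem_graded ha hy, by ring⟩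
  | zero => exact ⟨0, zero_mem _, mul_zero _⟩
  | add a b _ _ ha hb =>
    obtain ⟨y, hy, rfl⟩ := ha
    obtain ⟨z, hz, rfl⟩ := hb
    exact ⟨y + z, add_mem hy hz, mul_add _ _ _⟩
  | smul c a _ ha =>
    obtain ⟨y, hy, rfl⟩ := ha
    exact ⟨c • y, Submodule.smul_mem _ _ hy, mul_smul_comm c f y⟩

theorem Full.of_le (hstd : pos 𝒜 ≤ Ideal.span ((𝒜 1 : Submodule k R) : Set R)) {e : ℤ} {f : R}
    {n : ℤ} (h : Full 𝒜 e f n) (hn : 0 ≤ n) : ∀ j : ℕ, Full 𝒜 e f (n + j) := by
  intro j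
  induction j with
  | zero => simpa using h
  | succ j ih =>
    rw [Nat.cast_succ, ← add_assoc]
    exact ih.succ hstd (by omega)

theorem gpow_mem {a : R} {i : ℤ} (ha : a ∈ 𝒜 i) (m : ℕ) : a ^ m ∈ 𝒜 ((m : ℤ) * i) := by
  have := SetLike.pow_mem_graded m ha
  rwa [nsmul_eq_mul] at this

theorem piece_ne_zero [Nontrivial R] (hstd : pos 𝒜 ≤ Ideal.span ((𝒜 1 : Submodule k R) : Set R))
    {e : ℤ} {f : R} (he : 0 < e) (hf : f ∈ 𝒜 e) (hnz : f ∈ nonZeroDivisors R) {n : ℤ} (hn : 0 ≤ n) :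
    ∃ x ∈ 𝒜 n, x ≠ 0 := by
  by_contra! h
  have hall : ∀ j : ℕ, ∀ x ∈ 𝒜 (n + j), x = 0 := by
    intro j
    induction j with
    | zero => simpa using h
    | succ j ih =>
      intro x hx
      rw [Nat.cast_succ, ← add_assoc] at hx
      have := le_span_one_mul hstd (by omega) hx
      clear hx
      induction this using Submodule.span_induction with
      | mem z hz => obtain ⟨a, _, r, hr, rfl⟩ := hz; rw [ih r hr, mul_zero]
      | zero => rfl
      | add a b _ _ ha hb => rw [ha, hb, add_zero]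
      | smul c a _ ha => rw [ha, smul_zero]
  have hle : n ≤ (n.toNat : ℤ) * e := by
    rw [Int.toNat_of_nonneg hn]; nlinarith
  obtain ⟨j, hj⟩ := Int.eq_ofNat_of_zero_le (show 0 ≤ (n.toNat : ℤ) * e - n by omega)
  exact nonZeroDivisors.ne_zero (pow_mem hnz n.toNat)
    (hall j _ (by simpa [show n + (j : ℤ) = (n.toNat : ℤ) * e by omega] using gpow_mem hf n.toNat))

/-- The top degree of `R/fR`. -/
theorem exists_top [Nontrivial R] [IsNoetherianRing R] (hA : IsStd 𝒜)
    (hstd : pos 𝒜 ≤ Ideal.span ((𝒜 1 : Submodule k R) : Set R)) (hdim : ringKrullDim R ≤ 1)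
    {e : ℤ} {f : R} (he : 0 < e) (hf : f ∈ 𝒜 e) (hnz : f ∈ nonZeroDivisors R) :
    ∃ N : ℤ, e - 1 ≤ N ∧ ¬Full 𝒜 e f N ∧ ∀ n, N < n → Full 𝒜 e f n := by
  classical
  obtain ⟨M, hM⟩ := exists_full hstd hf (pos_le_radical hA hdim hf hnz)
  have hlow : ¬Full 𝒜 e f (e - 1) := fun h => by
    obtain ⟨x, hx, hx0⟩ := piece_ne_zero hstd he hf hnz (show 0 ≤ e - 1 by omega)
    obtain ⟨y, hy, rfl⟩ := h x hx
    exact hx0 (by rw [hA.eq_zero (by omega) hy, mul_zero])
  let P : ℕ → Prop := fun j => Full 𝒜 e f (e - 1 + j)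
  have hP : ∃ j, P j := ⟨M, hM _ (by omega)⟩
  have hpos : Nat.find hP ≠ 0 := fun h => hlow (by simpa [P, h] using Nat.find_spec hP)
  obtain ⟨j, hj⟩ := Nat.exists_eq_succ_of_ne_zero hpos
  refine ⟨e - 1 + j, by omega, Nat.find_min hP (by omega : j < Nat.find hP), fun n hn => ?_⟩
  have h := Full.of_le hstd (Nat.find_spec hP) (by omega) (n - (e - 1 + (Nat.find hP : ℤ))).toNat
  rwa [show e - 1 + (Nat.find hP : ℤ) + ((n - (e - 1 + (Nat.find hP : ℤ))).toNat : ℤ) = n by omega] at h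

theorem mul_piece (hA : IsStd 𝒜) (hstd : pos 𝒜 ≤ Ideal.span ((𝒜 1 : Submodule k R) : Set R)) {n : ℤ}
    (hn : 0 ≤ n) : ∀ m : ℕ, 𝒜 ((m : ℤ) + n) ≤ Submodule.span k {z : R | ∃ a ∈ 𝒜 (m : ℤ), ∃ b ∈ 𝒜 n, z = a * b} := by
  intro m
  induction m with
  | zero =>
    intro x hx
    exact Submodule.subset_span ⟨1, by simpa using SetLike.one_mem_graded 𝒜, x, by simpa using hx, (one_mul x).symm⟩
  | succ m ih =>
    intro x hx
    rw [Nat.cast_succ, show (m : ℤ) + 1 + n = ((m : ℤ) + n) + 1 by ring] at hx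
    refine Submodule.span_le.2 ?_ (le_span_one_mul hstd (by omega) hx)
    rintro z ⟨a, ha, r, hr, rfl⟩
    have hr' := ih hr
    clear hr
    induction hr' using Submodule.span_induction with
    | mem w hw =>
      obtain ⟨b, hb, c, hc, rfl⟩ := hw
      exact Submodule.subset_span ⟨a * b, by simpa [add_comm] using SetLike.mul_mem_graded ha hb, c, hc, (mul_assoc a b c).symm⟩
    | zero => rw [mul_zero]; exact zero_mem _
    | add u v _ _ hu hv => rw [mul_add]; exact add_mem hu hv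
    | smul c u _ hu => rw [mul_smul_comm]; exact Submodule.smul_mem _ _ hu

/-- A one-dimensional piece in positive degree makes `R` a polynomial ring in one variable. -/
theorem exists_bijective_aeval [Nontrivial R] (hA : IsStd 𝒜)
    (hstd : pos 𝒜 ≤ Ideal.span ((𝒜 1 : Submodule k R) : Set R)) {e : ℤ} {f : R} (he : 0 < e)
    (hf : f ∈ 𝒜 e) (hnz : f ∈ nonZeroDivisors R) {N : ℕ} (hN : 1 ≤ N)
    (hone : ∀ s ∈ 𝒜 (N : ℤ), s ≠ 0 → 𝒜 (N : ℤ) ≤ Submodule.span k {s}) :
    ∃ x ∈ 𝒜 1, x ∈ nonZeroDivisors R ∧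
      Function.Bijective (Polynomial.aeval x : Polynomial k →ₐ[k] R) := by
  classical
  obtain ⟨N', rfl⟩ : ∃ N', N = N' + 1 := ⟨N - 1, by omega⟩
  obtain ⟨y₀, hy₀, hy₀0⟩ := piece_ne_zero hstd he hf hnz (show (0 : ℤ) ≤ ((N' + 1 : ℕ) : ℤ) by omega)
  obtain ⟨a, ha, r, hr, har⟩ : ∃ a ∈ 𝒜 1, ∃ r ∈ 𝒜 (N' : ℤ), a * r ≠ 0 := by
    by_contra! h
    refine hy₀0 ((Submodule.mem_bot k).1 ((Submodule.span_eq_bot.2 ?_).le
      (le_span_one_mul hstd (Int.natCast_nonneg N') (by simpa using hy₀))))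
    rintro z ⟨a, ha, r, hr, rfl⟩
    exact h a ha r hr
  set N : ℕ := N' + 1
  set y := a * r
  have hy : y ∈ 𝒜 (N : ℤ) := by
    rw [show ((N : ℕ) : ℤ) = 1 + (N' : ℤ) by omega]; exact SetLike.mul_mem_graded ha hr
  have hpow : ∀ j : ℕ, 𝒜 ((j * N : ℕ) : ℤ) ≤ Submodule.span k {y ^ j} := by
    intro j
    induction j with
    | zero =>
      intro x hx
      rw [pow_zero, ← hA.zero]
      simpa using hx
    | succ j ih =>
      intro x hx
      refine Submodule.span_le.2 ?_ (mul_piece hA hstd (Int.natCast_nonneg N) (j * N)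
        (by rwa [← Nat.cast_add, ← Nat.succ_mul]))
      rintro z ⟨b, hb, c, hc, rfl⟩
      obtain ⟨β, rfl⟩ := Submodule.mem_span_singleton.1 (ih hb)
      obtain ⟨γ, rfl⟩ := Submodule.mem_span_singleton.1 (hone y hy har hc)
      exact Submodule.mem_span_singleton.2 ⟨β * γ, by rw [smul_mul_smul_comm, pow_succ]⟩
  obtain ⟨e', rfl⟩ : ∃ e' : ℕ, e = (e' : ℤ) := ⟨e.toNat, by omega⟩
  have hynz : y ∈ nonZeroDivisors R := by
    obtain ⟨c, hc⟩ := Submodule.mem_span_singleton.1 (hpow e' (show f ^ N ∈ 𝒜 ((e' * N : ℕ) : ℤ) by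
      rw [Nat.mul_comm, Nat.cast_mul]; exact gpow_mem hf N))
    have hfN := pow_mem hnz N
    rw [← hc, Algebra.smul_def] at hfN
    have h1 := (mul_mem_nonZeroDivisors.1 hfN).2
    rwa [show e' = (e' - 1) + 1 by omega, pow_succ, mul_mem_nonZeroDivisors, and_iff_right_iff_imp.2] at h1
    intro h2; exact pow_mem h2 _
  have hanz : a ∈ nonZeroDivisors R := (mul_mem_nonZeroDivisors.1 hynz).1
  have hmon : ∀ n : ℕ, 𝒜 (n : ℤ) ≤ Submodule.span k {a ^ n} := by
    intro n z hz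
    have hle : n ≤ (n + 1) * N := by nlinarith
    have hzz : a ^ ((n + 1) * N - n) * z ∈ 𝒜 (((n + 1) * N : ℕ) : ℤ) := by
      have := SetLike.mul_mem_graded (gpow_mem ha ((n + 1) * N - n)) hz
      rwa [mul_one, ← Nat.cast_add, Nat.sub_add_cancel hle] at this
    obtain ⟨c, hc⟩ := Submodule.mem_span_singleton.1 (hpow _ hzz)
    have han : a ^ ((n + 1) * N) ∈ 𝒜 (((n + 1) * N : ℕ) : ℤ) := by
      simpa using gpow_mem ha ((n + 1) * N)
    obtain ⟨c', hc'⟩ := Submodule.mem_span_singleton.1 (hpow _ han)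
    have hc'0 : c' ≠ 0 := fun h => nonZeroDivisors.ne_zero (pow_mem hanz _) (by rw [← hc', h, zero_smul])
    refine Submodule.mem_span_singleton.2 ⟨c * c'⁻¹, ?_⟩
    refine sub_eq_zero.1 (mem_nonZeroDivisors_iff_left.1 (pow_mem hanz ((n + 1) * N - n)) _ ?_)
    rw [mul_sub, mul_smul_comm, ← pow_add, Nat.sub_add_cancel hle, ← hc', smul_smul,
      inv_mul_cancel_right₀ hc'0, hc, sub_self]
  refine ⟨a, ha, hanz, ?_, ?_⟩
  · rw [injective_iff_map_eq_zero]
    intro p hp
    ext n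
    have hmem : ∀ b : ℕ, p.coeff b • a ^ b ∈ 𝒜 (b : ℤ) := fun b =>
      Submodule.smul_mem _ _ (by simpa using gpow_mem ha b)
    have h := congrArg (GradedRing.proj 𝒜 (n : ℤ)) hp
    rw [Polynomial.aeval_eq_sum_range, map_sum, map_zero, Finset.sum_eq_single n] at h
    · rw [GradedRing.proj_apply, decompose_of_mem_same 𝒜 (hmem n)] at h
      rw [Polynomial.coeff_zero]
      by_contra hne
      exact nonZeroDivisors.ne_zero (pow_mem hanz n) ((smul_eq_zero.1 h).resolve_left hne)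
    · intro b _ hb
      rw [GradedRing.proj_apply, decompose_of_mem_ne 𝒜 (hmem b) (fun h => hb (Nat.cast_injective h))]
    · intro hn
      simp [Polynomial.coeff_eq_zero_of_natDegree_lt (show p.natDegree < n by simpa using hn)]
  · intro z
    change z ∈ (Polynomial.aeval a : Polynomial k →ₐ[k] R).range
    rw [← DirectSum.sum_support_decompose 𝒜 z]
    refine sum_mem fun i _ => ?_
    rcases lt_or_ge i 0 with hi | hi
    · rw [hA.eq_zero hi (Submodule.coe_mem _)]; exact zero_mem _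
    · obtain ⟨c, hc⟩ := Submodule.mem_span_singleton.1
        (hmon i.toNat (by rw [Int.toNat_of_nonneg hi]; exact Submodule.coe_mem (decompose 𝒜 z i)))
      exact ⟨c • Polynomial.X ^ i.toNat, by simp [hc]⟩

/-- A polynomial ring in one variable has a one-dimensional degree one piece. -/
theorem piece_one_le_span_singleton [Nontrivial R] (hA : IsStd 𝒜) (E : R ≃ₐ[k] Polynomial k) :
    ∃ p : R, 𝒜 1 ≤ Submodule.span k {p} := by
  have : IsPrincipalIdealRing R :=
    IsPrincipalIdealRing.of_surjective E.symm.toRingEquiv.toRingHom E.symm.surjective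
  obtain ⟨p, hp⟩ := (inferInstance : (pos 𝒜).IsPrincipal).principal
  refine ⟨(decompose 𝒜 p 1 : R), fun x hx => ?_⟩
  have hpmem : p ∈ pos 𝒜 := hp ▸ Submodule.mem_span_singleton_self p
  obtain ⟨c, rfl⟩ := Submodule.mem_span_singleton.1 (hp ▸ mem_pos one_pos hx : x ∈ Submodule.span R {p})
  rw [← decompose_of_mem_same 𝒜 hx, smul_eq_mul]
  clear hx
  induction c using DirectSum.Decomposition.inductionOn 𝒜 with
  | zero => simp
  | add a b ha hb =>
    rw [add_mul, decompose_add, DirectSum.add_apply, Submodule.coe_add]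
    exact add_mem ha hb
  | @homogeneous i q =>
    rw [proj_mul p q.2]
    rcases lt_trichotomy i 0 with hi | rfl | hi
    · rw [hA.eq_zero hi q.2, zero_mul]; exact zero_mem _
    · obtain ⟨c, hc⟩ := hA.exists_scalar q.2
      rw [sub_zero, ← hc, smul_mul_assoc, one_mul]
      exact Submodule.smul_mem _ _ (Submodule.mem_span_singleton_self _)
    · rcases (show 1 - i < 0 ∨ 1 - i = 0 by omega) with h | h
      · rw [hA.eq_zero h (Submodule.coe_mem _), mul_zero]; exact zero_mem _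
      · rw [h, hA.proj_zero_pos hpmem, mul_zero]; exact zero_mem _

end Groth.Agent.SegreOne
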