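import Groth.Agent.SegreOne.Segre
import Groth.Agent.Catenary.CM

/-!
# Gorenstein and Cohen–Macaulay Segre products with a one-dimensional factor
-/

namespace Groth.Agent.SegreOne

open DirectSum SegreDim LocCoh
open scoped TensorProduct

universe u

variable {k : Type u} [Field k]
  {R : Type u} [CommRing R] [Algebra k R] {𝒜 : ℤ → Submodule k R} [GradedAlgebra 𝒜]
  {S : Type u} [CommRing S] [Algebra k S] {ℬ : ℤ → Submodule k S} [GradedAlgebra ℬ]

theorem exists_pair [Nontrivial R] (hA : IsStd 𝒜)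
    (hstd : pos 𝒜 ≤ Ideal.span ((𝒜 1 : Submodule k R) : Set R)) {e : ℤ} {f : R} (he : 0 < e)
    (hf : f ∈ 𝒜 e) (hnz : f ∈ nonZeroDivisors R)
    (hR : ¬∃ x ∈ 𝒜 1, Function.Bijective (Polynomial.aeval x : Polynomial k →ₐ[k] R)) {N : ℤ} (hN : 1 ≤ N) :
    ∃ s ∈ 𝒜 N, ∃ s' ∈ 𝒜 N, LinearIndependent k ![s, s'] := by
  by_contra! h
  obtain ⟨n, rfl⟩ : ∃ n : ℕ, N = (n : ℤ) := ⟨N.toNat, by omega⟩
  obtain ⟨x, hx, -, hb⟩ := exists_bijective_aeval hA hstd he hf hnz (by omega : 1 ≤ n) fun s hs hs0 t ht => by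
    have h' := h s hs t ht
    rw [LinearIndependent.pair_iff] at h'
    push Not at h'
    obtain ⟨a, b, hab, hne⟩ := h'
    have hb : b ≠ 0 := by
      rintro rfl
      rcases eq_or_ne a 0 with rfl | ha
      · exact hne rfl rfl
      · rw [zero_smul, add_zero, smul_eq_zero] at hab
        exact hs0 (hab.resolve_left ha)
    refine Submodule.mem_span_singleton.2 ⟨-(b⁻¹ * a), ?_⟩
    rw [neg_smul, neg_eq_iff_add_eq_zero]
    calc (b⁻¹ * a) • s + t = b⁻¹ • (a • s + b • t) := by rw [smul_add, smul_smul, smul_smul, inv_mul_cancel₀ hb, one_smul]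
    _ = 0 := by rw [hab, smul_zero]
  exact hR ⟨x, hx, hb⟩

variable {T : Type u} [CommRing T] [Algebra k T] {𝒯 : ℤ → Submodule k T} [GradedAlgebra 𝒯]
  (ψ : T →ₐ[k] R ⊗[k] S) (hψ : Function.Injective ψ)
  (hdeg : ∀ n : ℤ, (𝒯 n).map ψ.toLinearMap = Submodule.span k (diag 𝒜 ℬ n))

include hψ hdeg in
/-- `R # k[x] = R`. -/
theorem nonempty_equiv_left (hA : IsStd 𝒜) (hB : IsStd ℬ) {x : S} (hx : x ∈ ℬ 1)
    (hb : Function.Bijective (Polynomial.aeval x : Polynomial k →ₐ[k] S)) : Nonempty (T ≃+* R) := by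
  classical
  let ev : S →ₐ[k] k := (Polynomial.aeval (1 : k)).comp (AlgEquiv.ofBijective _ hb).symm.toAlgHom
  have hev : ev x = 1 := by
    have h : (AlgEquiv.ofBijective (Polynomial.aeval x : Polynomial k →ₐ[k] S) hb).symm x = Polynomial.X := by
      rw [AlgEquiv.symm_apply_eq, AlgEquiv.coe_ofBijective, Polynomial.aeval_X]
    change Polynomial.aeval (1 : k) ((AlgEquiv.ofBijective _ hb).symm x) = 1
    rw [h, Polynomial.aeval_X]
  let Φ : T →ₐ[k] R := (Algebra.TensorProduct.rid k k R).toAlgHom.comp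
    ((Algebra.TensorProduct.map (AlgHom.id k R) ev).comp ψ)
  have hspan : ∀ n, 0 ≤ n → ∀ b ∈ ℬ n, ∃ c : k, b = c • x ^ n.toNat := by
    intro n hn b hb'
    obtain ⟨p, rfl⟩ := hb.2 b
    refine ⟨p.coeff n.toNat, ?_⟩
    rw [← decompose_of_mem_same ℬ hb', Polynomial.aeval_eq_sum_range, decompose_sum, DFinsupp.finsetSum_apply,
      AddSubmonoidClass.coe_finsetSum, Finset.sum_eq_single n.toNat]
    · exact decompose_of_mem_same ℬ (Submodule.smul_mem _ _ (by
        simpa [Int.toNat_of_nonneg hn] using gpow_mem hx n.toNat))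
    · intro b _ hb
      exact decompose_of_mem_ne ℬ (Submodule.smul_mem _ (p.coeff b) (by simpa using gpow_mem hx b) :
        p.coeff b • x ^ b ∈ ℬ (b : ℤ)) (fun h => hb (by omega))
    · intro hn'
      simp [Polynomial.coeff_eq_zero_of_natDegree_lt (show p.natDegree < n.toNat by simpa using hn')]
  have key : ∀ n, ∀ z ∈ Submodule.span k (diag 𝒜 ℬ n),
      (Algebra.TensorProduct.rid k k R (Algebra.TensorProduct.map (AlgHom.id k R) ev z)) ∈ 𝒜 n ∧
      z = (Algebra.TensorProduct.rid k k R (Algebra.TensorProduct.map (AlgHom.id k R) ev z)) ⊗ₜ[k] (x ^ n.toNat) := by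
    intro n z hz
    induction hz using Submodule.span_induction with
    | mem w hw =>
      obtain ⟨a, ha, b, hb', rfl⟩ := hw
      rw [Algebra.TensorProduct.map_tmul, AlgHom.id_apply, Algebra.TensorProduct.rid_tmul]
      refine ⟨Submodule.smul_mem _ _ ha, ?_⟩
      rcases lt_or_ge n 0 with hn | hn
      · rw [hA.eq_zero hn ha]; simp
      · obtain ⟨c, rfl⟩ := hspan n hn b hb'
        rw [map_smul, map_pow, hev, one_pow, smul_eq_mul, mul_one, TensorProduct.smul_tmul]
    | zero => simp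
    | add a b _ _ ha hb =>
      refine ⟨by simpa using add_mem ha.1 hb.1, ?_⟩
      conv_lhs => rw [ha.2, hb.2]
      simp [TensorProduct.add_tmul]
    | smul c a _ ha =>
      refine ⟨by simpa using Submodule.smul_mem _ c ha.1, ?_⟩
      conv_lhs => rw [ha.2]
      simp [TensorProduct.smul_tmul']
  have hΦ : ∀ n, ∀ t ∈ 𝒯 n, Φ t ∈ 𝒜 n ∧ ψ t = Φ t ⊗ₜ[k] (x ^ n.toNat) := fun n t ht =>
    key n (ψ t) (hdeg n ▸ Submodule.mem_map_of_mem (f := ψ.toLinearMap) ht)
  have hinj : Function.Injective Φ := by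
    rw [injective_iff_map_eq_zero]
    intro t ht
    have hcomp : ∀ n, Φ (decompose 𝒯 t n : T) = (decompose 𝒜 (Φ t) n : R) := by
      intro n
      clear ht
      induction t using DirectSum.Decomposition.inductionOn 𝒯 with
      | zero => simp
      | add a b ha hb => simp only [decompose_add, DirectSum.add_apply, Submodule.coe_add, map_add, ha, hb]
      | @homogeneous i q =>
        by_cases h : i = n
        · subst h
          rw [decompose_of_mem_same 𝒯 q.2, decompose_of_mem_same 𝒜 (hΦ _ _ q.2).1]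
        · rw [decompose_of_mem_ne 𝒯 q.2 h, decompose_of_mem_ne 𝒜 (hΦ _ _ q.2).1 h, map_zero]
    rw [← DirectSum.sum_support_decompose 𝒯 t]
    refine Finset.sum_eq_zero fun n _ => hψ ?_
    rw [map_zero, (hΦ n _ (Submodule.coe_mem _)).2, hcomp, ht]
    simp
  have hsurj : Function.Surjective Φ := by
    intro r
    change r ∈ Φ.range
    rw [← DirectSum.sum_support_decompose 𝒜 r]
    refine sum_mem fun n _ => ?_
    rcases lt_or_ge n 0 with hn | hn
    · rw [hA.eq_zero hn (Submodule.coe_mem _)]; exact zero_mem _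
    · have hxn : x ^ n.toNat ∈ ℬ n := by simpa [Int.toNat_of_nonneg hn] using gpow_mem hx n.toNat
      obtain ⟨t, ht, hte⟩ := exists_tmul ψ hdeg (Submodule.coe_mem (decompose 𝒜 r n)) hxn
      refine ⟨t, ?_⟩
      change Algebra.TensorProduct.rid k k R (Algebra.TensorProduct.map (AlgHom.id k R) ev (ψ t)) = _
      rw [hte, Algebra.TensorProduct.map_tmul, AlgHom.id_apply, Algebra.TensorProduct.rid_tmul, map_pow, hev,
        one_pow, one_smul]
  exact ⟨RingEquiv.ofBijective Φ ⟨hinj, hsurj⟩⟩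

include hdeg in
theorem map_comm_deg (n : ℤ) :
    (𝒯 n).map ((Algebra.TensorProduct.comm k R S).toAlgHom.comp ψ).toLinearMap =
      Submodule.span k (diag ℬ 𝒜 n) := by
  rw [AlgHom.comp_toLinearMap, Submodule.map_comp, hdeg, Submodule.map_span]
  congr 1
  ext z
  constructor
  · rintro ⟨_, ⟨a, ha, b, hb, rfl⟩, rfl⟩
    exact ⟨b, hb, a, ha, rfl⟩
  · rintro ⟨b, hb, a, ha, rfl⟩
    exact ⟨a ⊗ₜ[k] b, ⟨a, ha, b, hb, rfl⟩, rfl⟩

include hψ hdeg in
theorem nonempty_equiv_right (hA : IsStd 𝒜) (hB : IsStd ℬ) {x : R} (hx : x ∈ 𝒜 1)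
    (hb : Function.Bijective (Polynomial.aeval x : Polynomial k →ₐ[k] R)) : Nonempty (T ≃+* S) :=
  nonempty_equiv_left ((Algebra.TensorProduct.comm k R S).toAlgHom.comp ψ)
    ((Algebra.TensorProduct.comm k R S).injective.comp hψ) (map_comm_deg ψ hdeg) hB hA hx hb

include hdeg in
theorem nontrivial_segre [Nontrivial R] [Nontrivial S] : Nontrivial T := by
  refine ⟨⟨1, 0, fun h => ?_⟩⟩
  obtain ⟨χ, hχ, -⟩ := exists_functional (p := (⊥ : Submodule k R)) (x := (1 : R)) (by simp)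
  have h1 : contractL χ (ψ 1) = contractL χ (ψ 0) := by rw [h]
  rw [map_one, map_zero, map_zero, Algebra.TensorProduct.one_def, contractL_tmul, hχ, one_smul] at h1
  exact one_ne_zero h1

include hψ in
theorem mem_nonZeroDivisors_of_tmul {f : R} {g : S} (hf : f ∈ nonZeroDivisors R) (hg : g ∈ nonZeroDivisors S)
    {a₀ : T} (ha₀ : ψ a₀ = f ⊗ₜ[k] g) : a₀ ∈ nonZeroDivisors T :=
  mem_nonZeroDivisors_iff_left.2 fun z hz => hψ ((tmul_regular hf hg
    (by rw [← ha₀, ← map_mul, hz, map_zero])).trans (map_zero ψ).symm)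

include hψ hdeg in
theorem poly_of_gorenstein_dim_one [Algebra.FiniteType k R] [Algebra.FiniteType k S]
    [IsCohenMacaulayRing R] [IsCohenMacaulayRing S] [IsGorensteinRing T]
    (hA : IsStd 𝒜) (hB : IsStd ℬ)
    (hstdR : pos 𝒜 ≤ Ideal.span ((𝒜 1 : Submodule k R) : Set R))
    (hstdS : pos ℬ ≤ Ideal.span ((ℬ 1 : Submodule k S) : Set S))
    (hr : ringKrullDim R = 1) (hs : ringKrullDim S = 1)
    (hR : ¬∃ x ∈ 𝒜 1, Function.Bijective (Polynomial.aeval x : Polynomial k →ₐ[k] R)) :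
    ∃ x ∈ ℬ 1, Function.Bijective (Polynomial.aeval x : Polynomial k →ₐ[k] S) := by
  by_contra hS
  have : IsNoetherianRing R := Algebra.FiniteType.isNoetherianRing k R
  have : IsNoetherianRing S := Algebra.FiniteType.isNoetherianRing k S
  have : Nontrivial R := by
    by_contra h
    rw [not_nontrivial_iff_subsingleton] at h
    rw [ringKrullDim_eq_bot_of_subsingleton] at hr; simp at hr
  have : Nontrivial S := by
    by_contra h
    rw [not_nontrivial_iff_subsingleton] at h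
    rw [ringKrullDim_eq_bot_of_subsingleton] at hs; simp at hs
  have := nontrivial_segre ψ hdeg
  obtain ⟨eR, f, heR, hf, hfz⟩ := exists_regular hA hr.ge
  obtain ⟨eS, g, heS, hg, hgz⟩ := exists_regular hB hs.ge
  set d : ℤ := 2 * eR * eS
  have hd : 2 ≤ d := by nlinarith
  have hf' : f ^ (2 * eS).toNat ∈ 𝒜 d := by
    have := gpow_mem hf (2 * eS).toNat
    rwa [Int.toNat_of_nonneg (by omega), show 2 * eS * eR = d by ring] at this
  have hg' : g ^ (2 * eR).toNat ∈ ℬ d := by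
    have := gpow_mem hg (2 * eR).toNat
    rwa [Int.toNat_of_nonneg (by omega)] at this
  have hfz' := pow_mem hfz (2 * eS).toNat
  have hgz' := pow_mem hgz (2 * eR).toNat
  obtain ⟨NR, hNR, hnR, hfullR⟩ := exists_top hA hstdR hr.le (by omega) hf' hfz'
  obtain ⟨NS, hNS, hnS, hfullS⟩ := exists_top hB hstdS hs.le (by omega) hg' hgz'
  obtain ⟨a₀, ha₀, ha₀e⟩ := exists_tmul ψ hdeg hf' hg'
  have hfull : ∀ n, max NR NS < n → Full 𝒯 d a₀ n := fun n hn =>
    full_segre ψ hψ hdeg ha₀e (hfullR n (lt_of_le_of_lt (le_max_left _ _) hn))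
      (hfullS n (lt_of_le_of_lt (le_max_right _ _) hn))
  obtain ⟨u, hu, v, hv, hind⟩ : ∃ u ∈ 𝒯 (max NR NS), ∃ v ∈ 𝒯 (max NR NS),
      ∀ c c' : k, c • u + c' • v ∈ Ideal.span {a₀} → c = 0 ∧ c' = 0 := by
    rcases le_total NS NR with h | h
    · rw [max_eq_left h]
      simp only [Full, not_forall] at hnR
      obtain ⟨r, hr', hrf⟩ := hnR
      obtain ⟨s, hs1, s', hs2, hli⟩ := exists_pair hB hstdS (by omega) hg' hgz' hS (show 1 ≤ NR by omega)
      exact exists_pair_left ψ hdeg ha₀ ha₀e hr' hrf hs1 hs2 hli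
    · rw [max_eq_right h]
      simp only [Full, not_forall] at hnS
      obtain ⟨s, hs', hsg⟩ := hnS
      obtain ⟨r, hr1, r', hr2, hli⟩ := exists_pair hA hstdR (by omega) hf' hfz' hR (show 1 ≤ NS by omega)
      exact exists_pair_right ψ hdeg ha₀ ha₀e hs' hsg hr1 hr2 hli
  exact not_pair_socle (isStd ψ hψ hdeg hA hB) (mem_nonZeroDivisors_of_tmul ψ hψ hfz' hgz' ha₀e)
    (pos_le_radical_of_full hfull) (fun x hx => pos_smul_mem hfull hu hx) (fun x hx => pos_smul_mem hfull hv hx) hind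

include hψ hdeg in
theorem poly_of_cohenMacaulay [Algebra.FiniteType k R] [Algebra.FiniteType k S]
    [IsCohenMacaulayRing R] [IsCohenMacaulayRing S] [IsCohenMacaulayRing T]
    (hA : IsStd 𝒜) (hB : IsStd ℬ)
    (hstdR : pos 𝒜 ≤ Ideal.span ((𝒜 1 : Submodule k R) : Set R))
    (hr : ringKrullDim R = 1) (hs : 2 ≤ ringKrullDim S) :
    ∃ x ∈ 𝒜 1, Function.Bijective (Polynomial.aeval x : Polynomial k →ₐ[k] R) := by
  classical
  by_contra hR
  have : IsNoetherianRing R := Algebra.FiniteType.isNoetherianRing k R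
  have : IsNoetherianRing S := Algebra.FiniteType.isNoetherianRing k S
  have : Nontrivial R := by
    by_contra h
    rw [not_nontrivial_iff_subsingleton] at h
    rw [ringKrullDim_eq_bot_of_subsingleton] at hr; simp at hr
  have : Nontrivial S := by
    by_contra h
    rw [not_nontrivial_iff_subsingleton] at h
    rw [ringKrullDim_eq_bot_of_subsingleton] at hs; simp at hs
  have := nontrivial_segre ψ hdeg
  have hT := isStd ψ hψ hdeg hA hB
  obtain ⟨eR, f, heR, hf, hfz⟩ := exists_regular hA hr.ge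
  obtain ⟨eS, g, heS, hg, hgz⟩ := exists_regular hB (le_trans (by decide) hs)
  set D : ℕ := eR.toNat * eS.toNat
  have hD : 0 < D := Nat.mul_pos (by omega) (by omega)
  set F := f ^ eS.toNat
  set G := g ^ eR.toNat
  have hF : F ∈ 𝒜 (D : ℤ) := by
    have := gpow_mem hf eS.toNat
    rwa [show ((eS.toNat : ℕ) : ℤ) * eR = (D : ℤ) by rw [Nat.cast_mul, Int.toNat_of_nonneg heR.le, mul_comm]] at this
  have hG : G ∈ ℬ (D : ℤ) := by
    have := gpow_mem hg eR.toNat
    rwa [show ((eR.toNat : ℕ) : ℤ) * eS = (D : ℤ) by rw [Nat.cast_mul, Int.toNat_of_nonneg heS.le]] at this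
  have hFz : F ∈ nonZeroDivisors R := pow_mem hfz _
  have hGz : G ∈ nonZeroDivisors S := pow_mem hgz _
  obtain ⟨N, -, -, hfull⟩ := exists_top hA hstdR hr.le (by omega) hF hFz
  obtain ⟨a₀, ha₀, ha₀e⟩ := exists_tmul ψ hdeg hF hG
  obtain ⟨r, hr1, r', hr2, hli⟩ := exists_pair hA hstdR (by omega : (0 : ℤ) < D) hF hFz hR (show (1 : ℤ) ≤ D by omega)
  obtain ⟨w, hw, hwF⟩ : ∃ w ∈ 𝒜 (D : ℤ), w ∉ Submodule.span k {F} := by
    by_contra! h
    obtain ⟨c, hc⟩ := Submodule.mem_span_singleton.1 (h r hr1)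
    obtain ⟨c', hc'⟩ := Submodule.mem_span_singleton.1 (h r' hr2)
    obtain ⟨h1, h2⟩ := LinearIndependent.pair_iff.1 hli c' (-c) (by
      rw [← hc, ← hc', smul_smul, smul_smul, neg_mul, neg_smul, mul_comm, add_neg_cancel])
    rw [neg_eq_zero.1 h2, zero_smul] at hc
    exact (LinearIndependent.ne_zero 0 hli) (by simpa using hc.symm)
  obtain ⟨v, hv, hve⟩ := exists_tmul ψ hdeg hw hG
  have hv0 : v ∉ Ideal.span {a₀} := fun h => by
    obtain ⟨χ, hχ1, hχ0⟩ := exists_functional hwF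
    have h0 := contract_eq_zero ψ hdeg (contractL χ) ha₀ ha₀e (fun a ha b _ => by
      rw [sub_self] at ha
      obtain ⟨c, rfl⟩ := hA.exists_scalar ha
      rw [contractL_tmul, hχ0 (F * c • 1) (Submodule.mem_span_singleton.2 ⟨c, by simp⟩), zero_smul]) hv h
    rw [hve, contractL_tmul, hχ1, one_smul] at h0
    exact nonZeroDivisors.ne_zero hGz h0
  -- `v` is killed by high degree modulo `a₀`
  have hkill : ∀ m : ℤ, N < m → ∀ y ∈ 𝒯 m, y * v ∈ Ideal.span {a₀} := by
    intro m hm y hy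
    have h : ψ y ∈ Submodule.span k (diag 𝒜 ℬ m) := hdeg m ▸ Submodule.mem_map_of_mem (f := ψ.toLinearMap) hy
    suffices h' : ∀ z ∈ Submodule.span k (diag 𝒜 ℬ m), ∃ t, ψ (a₀ * t) = z * (w ⊗ₜ[k] G) by
      obtain ⟨t, ht⟩ := h' _ h
      rw [← hve, ← map_mul] at ht
      rw [← hψ ht]
      exact Ideal.mul_mem_right _ _ (Ideal.mem_span_singleton_self a₀)
    intro z hz
    induction hz using Submodule.span_induction with
    | mem q hq =>
      obtain ⟨a, ha, b, hb, rfl⟩ := hq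
      obtain ⟨a', ha', hae⟩ := hfull (m + D) (by omega) (a * w) (SetLike.mul_mem_graded ha hw)
      rw [add_sub_cancel_right] at ha'
      obtain ⟨t, -, ht⟩ := exists_tmul ψ hdeg ha' hb
      exact ⟨t, by rw [map_mul, ha₀e, ht, Algebra.TensorProduct.tmul_mul_tmul, Algebra.TensorProduct.tmul_mul_tmul, hae, mul_comm G b]⟩
    | zero => exact ⟨0, by simp⟩
    | add a b _ _ ha hb =>
      obtain ⟨t, ht⟩ := ha; obtain ⟨t', ht'⟩ := hb
      exact ⟨t + t', by rw [mul_add, map_add, ht, ht', add_mul]⟩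
    | smul c a _ ha =>
      obtain ⟨t, ht⟩ := ha
      exact ⟨c • t, by rw [mul_smul_comm, map_smul, ht, smul_mul_assoc]⟩
  have ha₀z := mem_nonZeroDivisors_of_tmul ψ hψ hFz hGz ha₀e
  have : IsNoetherianRing T := SegreDim.isNoetherian ψ hψ hdeg
  have := StdMon.isCohenMacaulayRing_quotient_of_regular ha₀z
  set A' := T ⧸ Ideal.span {a₀}
  have hv' : (Ideal.Quotient.mk _ v : A') ≠ 0 := fun h => hv0 (Ideal.Quotient.eq_zero_iff_mem.1 h)
  obtain ⟨q, hq, hle⟩ := exists_le_isAssociatedPrime_of_isNoetherianRing A' (Ideal.Quotient.mk _ v : A') hv'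
  have hqp := hq.isPrime
  have hposq : pos 𝒯 ≤ q.comap (Ideal.Quotient.mk _) := by
    rw [pos, Ideal.span_le]
    rintro x ⟨n, hn, hx⟩
    obtain ⟨j, m, hm, hxj⟩ := pow_mem_of_mem hn hx N
    refine (hqp.comap _).mem_of_pow_mem j (hle ?_)
    rw [Submodule.mem_colon_singleton, Submodule.mem_bot, smul_eq_mul, ← map_mul, Ideal.Quotient.eq_zero_iff_mem]
    exact hkill m hm _ hxj
  have hqeq : pos 𝒯 = q.comap (Ideal.Quotient.mk _) :=
    hT.isMaximal_pos.eq_of_le (hqp.comap _).ne_top hposq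
  have hmin : pos 𝒯 ∈ (Ideal.span {a₀}).minimalPrimes := by
    rw [hqeq, Ideal.minimalPrimes_eq_comap]
    exact ⟨q, mem_minimalPrimes_of_mem_associatedPrimes hq, rfl⟩
  have hrad : pos 𝒯 ≤ (Ideal.span {a₀}).radical := by
    intro x hx
    rw [Ideal.radical_eq_sInf, Submodule.mem_sInf]
    rintro Q ⟨hQ, hQp⟩
    obtain ⟨P, hP, hPQ⟩ := Ideal.exists_minimalPrimes_le (I := Ideal.span {a₀}) hQ
    have hle := minimalPrime_le_pos hT (Ideal.homogeneous_span _ _ fun y hy =>
      ⟨(D : ℤ), (Set.mem_singleton_iff.1 hy) ▸ ha₀⟩) hP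
    exact hPQ (hmin.2 hP.1 hle hx)
  have hradS : pos ℬ ≤ (Ideal.span (Set.range fun _ : Fin 1 => G)).radical := by
    rw [pos, Ideal.span_le]
    rintro s ⟨n, hn, hs⟩
    rw [Set.range_const]
    have h1 : F ^ n.toNat ∈ 𝒜 (n * D) := by
      have := gpow_mem hF n.toNat
      rwa [Int.toNat_of_nonneg hn.le] at this
    have h2 : s ^ D ∈ ℬ (n * D) := by
      have := gpow_mem hs D
      rwa [mul_comm] at this
    obtain ⟨x, hx, hxe⟩ := exists_tmul ψ hdeg h1 h2
    obtain ⟨j, hj⟩ := hrad (mem_pos (mul_pos hn (by omega)) hx)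
    obtain ⟨t, ht⟩ := Ideal.mem_span_singleton.1 hj
    refine ⟨D * j, ?_⟩
    obtain ⟨χ, hχ, -⟩ := exists_functional (p := (⊥ : Submodule k R)) (x := (F ^ n.toNat) ^ j)
      (by simpa using nonZeroDivisors.ne_zero (pow_mem (pow_mem hFz n.toNat) j))
    have h := congrArg (fun y => contractL χ (ψ y)) ht
    simp only [map_pow, hxe, Algebra.TensorProduct.tmul_pow, map_mul, ha₀e, contractL_tmul, hχ, one_smul] at h
    rw [pow_mul, h]
    generalize ψ t = z
    induction z using TensorProduct.induction_on with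
    | zero => simp
    | add a b ha hb => rw [mul_add, map_add]; exact add_mem ha hb
    | tmul a b =>
      rw [Algebra.TensorProduct.tmul_mul_tmul, contractL_tmul]
      exact Submodule.smul_of_tower_mem _ _ (Ideal.mul_mem_right _ _ (Ideal.mem_span_singleton_self G))
  obtain ⟨X, -, hX⟩ := hB.exists_spanning (fun _ : Fin 1 => G) (by omega : (0 : ℤ) < D) (fun _ => hG) hradS
  have hspans : Spans k S S (fun _ : Fin 1 => G) X := hX
  have hdim := hspans.nonTors_or_supportDim_lt.1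
  rw [Module.supportDim_self_eq_ringKrullDim] at hdim
  exact absurd (hs.trans hdim) (by decide)

end Groth.Agent.SegreOne
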