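import Groth.Agent.SegreOne.Periodic

/-!
# Cohen–Macaulay Segre products with a one-dimensional factor are periodic
-/

namespace Groth.Agent.SegreOne

open DirectSum SegreDim LocCoh
open scoped TensorProduct

universe u

variable {k : Type u} [Field k]
  {R : Type u} [CommRing R] [Algebra k R] {𝒜 : ℤ → Submodule k R} [GradedAlgebra 𝒜]
  {S : Type u} [CommRing S] [Algebra k S] {ℬ : ℤ → Submodule k S} [GradedAlgebra ℬ]
  {T : Type u} [CommRing T] [Algebra k T] {𝒯 : ℤ → Submodule k T} [GradedAlgebra 𝒯]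
  (ψ : T →ₐ[k] R ⊗[k] S) (hψ : Function.Injective ψ)
  (hdeg : ∀ n : ℤ, (𝒯 n).map ψ.toLinearMap = Submodule.span k (diag 𝒜 ℬ n))

include hψ hdeg in
theorem full_of_cohenMacaulay [Algebra.FiniteType k R] [Algebra.FiniteType k S] [IsCohenMacaulayRing T]
    [Nontrivial R] [Nontrivial S] (hA : IsStd 𝒜) (hB : IsStd ℬ) (hr : ringKrullDim R ≤ 1)
    (hs : 2 ≤ ringKrullDim S) {D : ℕ} (hD : 0 < D) {F : R} (hF : F ∈ 𝒜 (D : ℤ)) (hFz : F ∈ nonZeroDivisors R)
    {G : S} (hG : G ∈ ℬ (D : ℤ)) (hGz : G ∈ nonZeroDivisors S) {n : ℤ} (hn : ℬ n ≠ ⊥) :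
    Full 𝒜 (D : ℤ) F (n + D) := by
  classical
  intro w hw
  by_contra hwF
  have : IsNoetherianRing R := Algebra.FiniteType.isNoetherianRing k R
  have : IsNoetherianRing S := Algebra.FiniteType.isNoetherianRing k S
  have hT := isStd ψ hψ hdeg hA hB
  have := nontrivial_segre ψ hdeg
  obtain ⟨⟨N, hfull⟩, -⟩ := exists_periodic hA hr (by omega : (0 : ℤ) < D) hF hFz
  obtain ⟨s₀, hs₀, hs₀0⟩ := Submodule.exists_mem_ne_zero_of_ne_bot hn
  obtain ⟨a₀, ha₀, ha₀e⟩ := exists_tmul ψ hdeg hF hG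
  have hsG : s₀ * G ∈ ℬ (n + D) := SetLike.mul_mem_graded hs₀ hG
  obtain ⟨v, hv, hve⟩ := exists_tmul ψ hdeg hw hsG
  have hv0 : v ∉ Ideal.span {a₀} := fun h => by
    obtain ⟨χ, hχ1, hχ0⟩ := exists_functional (p := (𝒜 n).map (LinearMap.mulLeft k F)) (x := w)
      (fun h => hwF (by
        obtain ⟨y, hy, he⟩ := Submodule.mem_map.1 h
        exact ⟨y, by rwa [add_sub_cancel_right], he⟩))
    have h0 := contract_eq_zero ψ hdeg (contractL χ) ha₀ ha₀e (fun a ha b _ => by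
      rw [add_sub_cancel_right] at ha
      rw [contractL_tmul, hχ0 (F * a) (Submodule.mem_map_of_mem (f := LinearMap.mulLeft k F) ha), zero_smul]) hv h
    rw [hve, contractL_tmul, hχ1, one_smul] at h0
    exact hs₀0 (mem_nonZeroDivisors_iff_right.1 hGz _ h0)
  have hkill : ∀ m : ℤ, max N (N - n) < m → ∀ y ∈ 𝒯 m, y * v ∈ Ideal.span {a₀} := by
    intro m hm y hy
    have h : ψ y ∈ Submodule.span k (diag 𝒜 ℬ m) := hdeg m ▸ Submodule.mem_map_of_mem (f := ψ.toLinearMap) hy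
    suffices h' : ∀ z ∈ Submodule.span k (diag 𝒜 ℬ m), ∃ t, ψ (a₀ * t) = z * (w ⊗ₜ[k] (s₀ * G)) by
      obtain ⟨t, ht⟩ := h' _ h
      rw [← hve, ← map_mul] at ht
      rw [← hψ ht]
      exact Ideal.mul_mem_right _ _ (Ideal.mem_span_singleton_self a₀)
    intro z hz
    induction hz using Submodule.span_induction with
    | mem q hq =>
      obtain ⟨a, ha, b, hb, rfl⟩ := hq
      obtain ⟨a', ha', hae⟩ := hfull (m + (n + D)) (by
        have := le_max_right N (N - n); omega) (a * w) (SetLike.mul_mem_graded ha hw)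
      rw [show m + (n + (D : ℤ)) - D = m + n by ring] at ha'
      obtain ⟨t, -, ht⟩ := exists_tmul ψ hdeg ha' (SetLike.mul_mem_graded hb hs₀)
      exact ⟨t, by rw [map_mul, ha₀e, ht, Algebra.TensorProduct.tmul_mul_tmul, Algebra.TensorProduct.tmul_mul_tmul,
        hae, mul_comm G (b * s₀), mul_assoc b s₀ G]⟩
    | zero => exact ⟨0, by simp⟩
    | add a b _ _ ha hb =>
      obtain ⟨t, ht⟩ := ha; obtain ⟨t', ht'⟩ := hb
      exact ⟨t + t', by rw [mul_add, map_add, ht, ht', add_mul]⟩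
    | smul c a _ ha =>
      obtain ⟨t, ht⟩ := ha
      exact ⟨c • t, by rw [mul_smul_comm, map_smul, ht, smul_mul_assoc]⟩
  have ha₀z := mem_nonZeroDivisors_of_tmul ψ hψ hFz hGz ha₀e
  have : IsNoetherianRing T := SegreDim.isNoetherian ψ hψ hdeg
  have := StdMon.isCohenMacaulayRing_quotient_of_regular ha₀z
  set A' := T ⧸ Ideal.span {a₀}
  have hv' : (Ideal.Quotient.mk _ v : A') ≠ 0 := fun h => hv0 (Ideal.Quotient.eq_zero_iff_mem.1 h)
  obtain ⟨q, hq, hle⟩ := exists_le_isAssociatedPrime_of_isNoetherianRing A' (Ideal.Quotient.mk _ v : A') hv'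
  have hqp := hq.isPrime
  have hposq : pos 𝒯 ≤ q.comap (Ideal.Quotient.mk _) := by
    rw [pos, Ideal.span_le]
    rintro x ⟨i, hi, hx⟩
    obtain ⟨j, m, hm, hxj⟩ := pow_mem_of_mem hi hx (max N (N - n))
    refine (hqp.comap _).mem_of_pow_mem j (hle ?_)
    rw [Submodule.mem_colon_singleton, Submodule.mem_bot, smul_eq_mul, ← map_mul, Ideal.Quotient.eq_zero_iff_mem]
    exact hkill m hm _ hxj
  have hqeq : pos 𝒯 = q.comap (Ideal.Quotient.mk _) :=
    hT.isMaximal_pos.eq_of_le (hqp.comap _).ne_top hposq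
  have hmin : pos 𝒯 ∈ (Ideal.span {a₀}).minimalPrimes := by
    rw [hqeq, Ideal.minimalPrimes_eq_comap]
    exact ⟨q, mem_minimalPrimes_of_mem_associatedPrimes hq, rfl⟩
  have hrad : pos 𝒯 ≤ (Ideal.span {a₀}).radical := by
    intro x hx
    rw [Ideal.radical_eq_sInf, Submodule.mem_sInf]
    rintro Q ⟨hQ, hQp⟩
    obtain ⟨P, hP, hPQ⟩ := Ideal.exists_minimalPrimes_le (I := Ideal.span {a₀}) hQ
    have hle := minimalPrime_le_pos hT (Ideal.homogeneous_span _ _ fun y hy =>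
      ⟨(D : ℤ), (Set.mem_singleton_iff.1 hy) ▸ ha₀⟩) hP
    exact hPQ (hmin.2 hP.1 hle hx)
  have hradS : pos ℬ ≤ (Ideal.span (Set.range fun _ : Fin 1 => G)).radical := by
    rw [pos, Ideal.span_le]
    rintro s ⟨i, hi, hs⟩
    rw [Set.range_const]
    have h1 : F ^ i.toNat ∈ 𝒜 (i * D) := by
      have := gpow_mem hF i.toNat
      rwa [Int.toNat_of_nonneg hi.le] at this
    have h2 : s ^ D ∈ ℬ (i * D) := by
      have := gpow_mem hs D
      rwa [mul_comm] at this
    obtain ⟨x, hx, hxe⟩ := exists_tmul ψ hdeg h1 h2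
    obtain ⟨j, hj⟩ := hrad (mem_pos (mul_pos hi (by omega)) hx)
    obtain ⟨t, ht⟩ := Ideal.mem_span_singleton.1 hj
    refine ⟨D * j, ?_⟩
    obtain ⟨χ, hχ, -⟩ := exists_functional (p := (⊥ : Submodule k R)) (x := (F ^ i.toNat) ^ j)
      (by simpa using nonZeroDivisors.ne_zero (pow_mem (pow_mem hFz i.toNat) j))
    have h := congrArg (fun y => contractL χ (ψ y)) ht
    simp only [map_pow, hxe, Algebra.TensorProduct.tmul_pow, map_mul, ha₀e, contractL_tmul, hχ, one_smul] at h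
    rw [pow_mul, h]
    generalize ψ t = z
    induction z using TensorProduct.induction_on with
    | zero => simp
    | add a b ha hb => rw [mul_add, map_add]; exact add_mem ha hb
    | tmul a b =>
      rw [Algebra.TensorProduct.tmul_mul_tmul, contractL_tmul]
      exact Submodule.smul_of_tower_mem _ _ (Ideal.mul_mem_right _ _ (Ideal.mem_span_singleton_self G))
  obtain ⟨X, -, hX⟩ := hB.exists_spanning (fun _ : Fin 1 => G) (by omega : (0 : ℤ) < D) (fun _ => hG) hradS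
  have hspans : Spans k S S (fun _ : Fin 1 => G) X := hX
  have hdim := hspans.nonTors_or_supportDim_lt.1
  rw [Module.supportDim_self_eq_ringKrullDim] at hdim
  exact absurd (hs.trans hdim) (by decide)

end Groth.Agent.SegreOne
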