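import Groth.Agent.SegreOne.Periodic
import Groth.Prelude.Def_GrLC

/-!
# The first graded local cohomology of a one-dimensional graded algebra
-/

namespace Groth.Agent.SegreOne

open DirectSum SegreDim

universe u

variable {k R : Type u} [Field k] [CommRing R] [Algebra k R] {𝒜 : ℤ → Submodule k R} [GradedAlgebra 𝒜]

variable (𝒜) in
/-- The pieces of `R(-e)`. -/
def shiftGr (e : ℤ) (m : ℤ) : AddSubgroup R := (𝒜 (m - e)).toAddSubgroup

/-- The decomposition of `R(-e)`. -/
@[instance_reducible] noncomputable def shiftDec (e : ℤ) : DirectSum.Decomposition (shiftGr 𝒜 e) :=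
  DirectSum.Decomposition.ofAddHom (shiftGr 𝒜 e)
    ((DirectSum.toAddMonoid fun i => (DirectSum.of (fun m => shiftGr 𝒜 e m) (i + e)).comp
      ({ toFun := fun x => ⟨x.1, show x.1 ∈ 𝒜 (i + e - e) by rw [add_sub_cancel_right]; exact x.2⟩
         map_zero' := rfl
         map_add' := fun _ _ => rfl } : 𝒜 i →+ shiftGr 𝒜 e (i + e))).comp
      (decomposeAddEquiv 𝒜).toAddMonoidHom)
    (by
      refine AddMonoidHom.ext fun x => ?_
      induction x using DirectSum.Decomposition.inductionOn 𝒜 with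
      | zero => simp
      | add a b ha hb => rw [map_add, ha, hb, map_add]
      | @homogeneous i q => simp [decompose_coe])
    (by
      refine DirectSum.addHom_ext fun i x => ?_
      obtain ⟨j, rfl⟩ : ∃ j, i = j + e := ⟨i - e, by omega⟩
      have hx : (x : R) ∈ 𝒜 j := by
        have h : (x : R) ∈ 𝒜 (j + e - e) := x.2
        rwa [add_sub_cancel_right] at h
      simp only [AddMonoidHom.comp_apply, coeAddMonoidHom_of, AddMonoidHom.id_apply]
      change (DirectSum.toAddMonoid _) (decompose 𝒜 (x : R)) = _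
      rw [decompose_of_mem 𝒜 hx, toAddMonoid_of]
      rfl)

theorem shiftGsmul (e : ℤ) : SetLike.GradedSMul 𝒜 (shiftGr 𝒜 e) :=
  ⟨fun {i j} a x ha hx => by
    change a * x ∈ 𝒜 (i + j - e)
    rw [add_sub_assoc]
    exact SetLike.mul_mem_graded ha hx⟩

variable (𝒜) in
/-- `R(-e)` as a bundled graded module. -/
@[reducible] noncomputable def shiftMod (e : ℤ) : GrLC.GMod.{u} 𝒜 :=
  letI := shiftDec (𝒜 := 𝒜) e
  letI := shiftGsmul (𝒜 := 𝒜) e
  GrLC.GMod.of 𝒜 R (shiftGr 𝒜 e)

theorem mem_gam_of_pow_smul [IsNoetherianRing R] {a : Ideal R} {F : R} (ha : a ≤ (Ideal.span {F}).radical)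
    {M : Type u} [AddCommGroup M] [Module R M] {x : M} {j : ℕ} (h : F ^ j • x = 0) : x ∈ GrLC.gam a M := by
  obtain ⟨L, hL⟩ := Ideal.exists_pow_le_of_le_radical_of_fg ha (IsNoetherian.noetherian _)
  refine ⟨L * j, fun r hr => ?_⟩
  have h2 : a ^ (L * j) ≤ Ideal.span {F ^ j} := by
    rw [pow_mul, ← Ideal.span_singleton_pow]
    exact Ideal.pow_right_mono hL j
  obtain ⟨c, rfl⟩ := Ideal.mem_span_singleton'.1 (h2 hr)
  rw [mul_smul, h, smul_zero]

/-- `H¹(R)_n = 0` exactly when degree `n` of the localisation at `F` lies in `R`. -/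
theorem hcomp_eq_bot_iff [IsNoetherianRing R] {D : ℤ} {F : R} (hF : F ∈ 𝒜 D) (hFz : F ∈ nonZeroDivisors R)
    (mR : HomogeneousIdeal 𝒜) (hFm : F ∈ mR.toIdeal) (hrad : mR.toIdeal ≤ (Ideal.span {F}).radical)
    (E : GrLC.StarInjRes 𝒜 𝒜) (n : ℤ) :
    E.Hcomp mR 1 n = ⊥ ↔ ∀ j : ℕ, Full 𝒜 (j * D) (F ^ j) (n + j * D) := by
  classical
  constructor
  · intro h0 j r hr
    let A' := shiftMod 𝒜 (n + j * D)
    let B' := shiftMod 𝒜 n
    let f : A'.carrier →ₗ[R] B'.carrier := LinearMap.mulLeft R (F ^ j)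
    let g : A'.carrier →ₗ[R] (E.X 0).carrier := LinearMap.toSpanSingleton R _ (E.ε r)
    have hf : GrLC.IsGrHom A'.gr B'.gr f := fun m x hx => by
      change F ^ j * (show R from x) ∈ 𝒜 (m - n)
      have := SetLike.mul_mem_graded (gpow_mem hF j) (show (x : R) ∈ 𝒜 (m - (n + j * D)) from hx)
      rwa [show (j : ℤ) * D + (m - (n + j * D)) = m - n by ring] at this
    have hg : GrLC.IsGrHom A'.gr (E.X 0).gr g := fun m x hx => by
      change (x : R) • E.ε r ∈ (E.X 0).gr m
      have := SetLike.GradedSMul.smul_mem (A := 𝒜) (B := (E.X 0).gr)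
        (show (x : R) ∈ 𝒜 (m - (n + j * D)) from hx) (E.ε_grHom _ r hr)
      rwa [vadd_eq_add, sub_add_cancel] at this
    obtain ⟨h, hh, hhf⟩ := E.starInj 0 A' B' f hf (fun x y hxy => sub_eq_zero.1
      (mem_nonZeroDivisors_iff_left.1 (pow_mem hFz j) (show R from x - y)
        ((mul_sub (F ^ j) (show R from x) (show R from y)).trans (sub_eq_zero.2 hxy)))) g hg
    set y := h (1 : R)
    have hy : y ∈ (E.X 0).gr n := hh n (1 : R) (by
      change (1 : R) ∈ 𝒜 (n - n)
      rw [sub_self]; exact SetLike.one_mem_graded 𝒜)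
    have hFy : F ^ j • y = E.ε r := by
      have := LinearMap.congr_fun hhf (1 : R)
      change h (F ^ j * 1) = (1 : R) • E.ε r at this
      rw [← map_smul]
      rw [one_smul] at this
      exact this
    have hdz : E.d 0 y ∈ GrLC.gam mR.toIdeal (E.X 1).carrier := by
      refine mem_gam_of_pow_smul hrad (j := j) ?_
      rw [← map_smul, hFy]
      exact LinearMap.mem_ker.1 (by rw [E.exact_zero]; exact ⟨r, rfl⟩)
    have hker : E.d 0 y ∈ LinearMap.ker (E.d 1) := by rw [E.exact_succ 0]; exact ⟨y, rfl⟩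
    let z : E.cocyc mR 1 := ⟨E.d 0 y, hdz, hker⟩
    have hz : E.toH mR 1 z ∈ E.Hcomp mR 1 n := ⟨z, E.d_grHom 0 n y hy, rfl⟩
    rw [h0, Submodule.mem_bot, Submodule.mkQ_apply, Submodule.Quotient.mk_eq_zero] at hz
    obtain ⟨τ, ⟨L, hτ⟩, hτe⟩ := hz
    obtain ⟨r₀, hr₀⟩ : y - τ ∈ LinearMap.range E.ε := by
      rw [← E.exact_zero, LinearMap.mem_ker, map_sub, sub_eq_zero]
      exact hτe.symm
    have h1 : F ^ L • F ^ j • E.ε r₀ = F ^ L • E.ε r := by
      rw [hr₀, smul_sub, smul_sub, hFy, smul_comm (F ^ L) (F ^ j) τ, hτ _ (Ideal.pow_mem_pow hFm L), smul_zero,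
        sub_zero]
    rw [smul_smul, ← map_smul, ← map_smul, smul_eq_mul, smul_eq_mul, mul_assoc] at h1
    have h2 : F ^ j * r₀ = r := sub_eq_zero.1 (mem_nonZeroDivisors_iff_left.1 (pow_mem hFz L) _
      (by rw [mul_sub, E.ε_injective h1, sub_self]))
    refine ⟨(decompose 𝒜 r₀ n : R), by simpa using Submodule.coe_mem (decompose 𝒜 r₀ n), ?_⟩
    have := proj_mul r₀ (gpow_mem hF j) (n + j * D) (q := F ^ j)
    rwa [h2, decompose_of_mem_same 𝒜 hr, add_sub_cancel_right, eq_comm] at this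
  · intro hfull
    rw [eq_bot_iff]
    rintro x ⟨⟨z, ⟨M, hM⟩, hzk⟩, hz, rfl⟩
    rw [Submodule.mem_bot, Submodule.mkQ_apply, Submodule.Quotient.mk_eq_zero]
    obtain ⟨y, hy⟩ : z ∈ LinearMap.range (E.d 0) := by rw [← E.exact_succ 0]; exact hzk
    -- the component of degree `n`
    set y' := ((decompose (E.X 0).gr y) n : (E.X 0).carrier)
    have hy' : E.d 0 y' = z := by
      have key : ∀ w, E.d 0 ((decompose (E.X 0).gr w) n : (E.X 0).carrier) =
          ((decompose (E.X 1).gr (E.d 0 w)) n : (E.X 1).carrier) := fun w => by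
        induction w using DirectSum.Decomposition.inductionOn (E.X 0).gr with
        | zero => simp
        | add a b ha hb =>
          simp only [decompose_add, DirectSum.add_apply, AddMemClass.coe_add, map_add, ha, hb]
        | @homogeneous i q =>
          by_cases hi : i = n
          · subst hi
            rw [decompose_of_mem_same _ q.2, decompose_of_mem_same _ (E.d_grHom 0 i q q.2)]
          · rw [decompose_of_mem_ne _ q.2 hi, decompose_of_mem_ne _ (E.d_grHom 0 i q q.2) hi, map_zero]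
      rw [key, hy, decompose_of_mem_same _ hz]
    have hym : y' ∈ (E.X 0).gr n := SetLike.coe_mem _
    obtain ⟨r, hr⟩ : F ^ M • y' ∈ LinearMap.range E.ε := by
      rw [← E.exact_zero, LinearMap.mem_ker, map_smul, hy', hM _ (Ideal.pow_mem_pow hFm M)]
    have hdeg : F ^ M • y' ∈ (E.X 0).gr (n + M * D) := by
      have := SetLike.GradedSMul.smul_mem (A := 𝒜) (B := (E.X 0).gr) (gpow_mem hF M) hym
      rwa [vadd_eq_add, add_comm] at this
    have hrm : (decompose 𝒜 r (n + M * D) : R) = r := by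
      refine E.ε_injective ?_
      have key : ∀ w, E.ε (decompose 𝒜 w (n + M * D) : R) =
          ((decompose (E.X 0).gr (E.ε w)) (n + M * D) : (E.X 0).carrier) := fun w => by
        induction w using DirectSum.Decomposition.inductionOn 𝒜 with
        | zero => simp
        | add a b ha hb =>
          simp only [decompose_add, DirectSum.add_apply, Submodule.coe_add, AddMemClass.coe_add, map_add, ha, hb]
        | @homogeneous i q =>
          by_cases hi : i = n + M * D
          · subst hi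
            rw [decompose_of_mem_same _ q.2, decompose_of_mem_same _ (E.ε_grHom _ q q.2)]
          · rw [decompose_of_mem_ne _ q.2 hi, decompose_of_mem_ne _ (E.ε_grHom _ q q.2) hi, map_zero]
      rw [key, hr, decompose_of_mem_same _ hdeg]
    obtain ⟨r₀, -, hr₀⟩ := hfull M r (hrm ▸ Submodule.coe_mem _)
    refine ⟨y' - E.ε r₀, mem_gam_of_pow_smul hrad (j := M) ?_, ?_⟩
    · rw [smul_sub, ← hr, ← map_smul, smul_eq_mul, hr₀, sub_self]
    · rw [map_sub, hy', LinearMap.mem_ker.1 (by rw [E.exact_zero]; exact ⟨r₀, rfl⟩), sub_zero]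
      rfl

end Groth.Agent.SegreOne
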