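import Groth.Agent.SegreOne.Poly
import Groth.Agent.Catenary.CM
import Groth.Agent.ComodBasic.AffineHeight
import Groth.Agent.Miracle.Basic
import Groth.Agent.DepthLib.CMPoly
import Mathlib.RingTheory.Flat.Localization
import Mathlib.RingTheory.RegularLocalRing.Polynomial

/-!
# Cohen–Macaulay graded algebras are flat over parameters
-/

namespace Groth.Agent.SegreOne

open DirectSum SegreDim LocCoh MvPolynomial

universe u

variable {k S : Type u} [Field k] [CommRing S] [Algebra k S] {ℬ : ℤ → Submodule k S} [GradedAlgebra ℬ]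

/-- All maximal ideals of a graded Cohen–Macaulay algebra have the same height. -/
theorem height_eq_of_isMaximal [Algebra.FiniteType k S] [IsCohenMacaulayRing S] (hB : IsStd ℬ) {s : ℕ}
    (hs : ringKrullDim S = s) (q : Ideal S) [hq : q.IsMaximal] : q.height = s := by
  have : IsNoetherianRing S := Algebra.FiniteType.isNoetherianRing k S
  have : Nontrivial S := ⟨⟨0, 1, fun h => hq.ne_top ((Ideal.eq_top_iff_one q).2 (h ▸ q.zero_mem))⟩⟩
  have hcat := Catenary.heightCat_of_cm S
  have hmax := hB.isMaximal_pos
  set h := (pos ℬ).height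
  have key : ∀ (p : Ideal S), p ∈ minimalPrimes S → ∀ M : Ideal S, M.IsMaximal → p ≤ M → M.height = h := by
    intro p hp
    have := hp.isPrime
    obtain ⟨N, hN, hht⟩ := ComodBasic.exists_height_eq_of_isMaximal k (S ⧸ p)
    have hsurj : Function.Surjective (Ideal.Quotient.mk p) := Ideal.Quotient.mk_surjective
    -- heights above `p` agree
    have hsame : ∀ P : PrimeSpectrum S, ∀ hP : p ≤ P.asIdeal,
        P.asIdeal.height = (P.asIdeal.map (Ideal.Quotient.mk p)).height := by
      intro P
      induction hn : P.asIdeal.height using WellFoundedLT.induction generalizing P with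
      | _ n ih =>
      subst hn
      intro hP
      have hPp : (P.asIdeal.map (Ideal.Quotient.mk p)).IsPrime :=
        Ideal.map_isPrime_of_surjective hsurj (by rw [Ideal.mk_ker]; exact hP)
      refine le_antisymm ?_ ?_
      · rcases hP.eq_or_lt with heq | hlt
        · rw [← heq]
          have : p.height = 0 := Ideal.height_eq_zero_iff.2 hp
          rw [this]; exact bot_le
        · obtain ⟨Q, ⟨hpQ, hQP⟩, hQmax⟩ := (wellFounded_gt (α := Ideal S)).has_min
            {Q | (p ≤ Q ∧ Q < P.asIdeal) ∧ Q.IsPrime} ⟨p, ⟨le_rfl, hlt⟩, ‹_›⟩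
          have hQp : Q.IsPrime := hQP
          have hcov : (⟨Q, hQp⟩ : PrimeSpectrum S) ⋖ P := ⟨hpQ.2, fun c hc hcP =>
            hQmax c.asIdeal ⟨⟨hpQ.1.trans hc.le, hcP⟩, c.isPrime⟩ hc⟩
          rw [hcat _ _ hcov, ih _ (Ideal.height_strict_mono_of_isPrime hpQ.2) ⟨Q, hQp⟩ rfl hpQ.1]
          have hQ' : (Q.map (Ideal.Quotient.mk p)).IsPrime :=
            Ideal.map_isPrime_of_surjective hsurj (by rw [Ideal.mk_ker]; exact hpQ.1)
          refine Ideal.height_add_one_le_of_lt_of_isPrime (lt_of_le_of_ne (Ideal.map_mono hpQ.2.le) fun e => ?_)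
          have e' := congrArg (Ideal.comap (Ideal.Quotient.mk p)) e
          rw [Ideal.comap_map_of_surjective _ hsurj, Ideal.comap_map_of_surjective _ hsurj, ← RingHom.ker_eq_comap_bot,
            Ideal.mk_ker, sup_eq_left.2 hpQ.1, sup_eq_left.2 hP] at e'
          exact hpQ.2.ne e'
      · have hcomap : (P.asIdeal.map (Ideal.Quotient.mk p)).comap (Ideal.Quotient.mk p) = P.asIdeal := by
          rw [Ideal.comap_map_of_surjective _ hsurj, ← RingHom.ker_eq_comap_bot, Ideal.mk_ker, sup_eq_left.2 hP]
        have hsm : StrictMono (PrimeSpectrum.comap (Ideal.Quotient.mk p)) := fun a b hab => by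
          refine lt_of_le_of_ne (Ideal.comap_mono hab.le) fun e => hab.ne ?_
          exact PrimeSpectrum.ext (Ideal.comap_injective_of_surjective _ hsurj (congrArg PrimeSpectrum.asIdeal e))
        have h1 := Order.height_le_height_apply_of_strictMono _ hsm ⟨_, hPp⟩
        rw [← PrimeSpectrum.height_eq_orderHeight, ← PrimeSpectrum.height_eq_orderHeight] at h1
        exact h1.trans (le_of_eq (congrArg Ideal.height hcomap))
    intro M hM hpM
    have hmapmax : ∀ M : Ideal S, M.IsMaximal → p ≤ M → (M.map (Ideal.Quotient.mk p)).IsMaximal :=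
      fun M hM hle => Ideal.IsMaximal.map_of_surjective_of_ker_le hsurj (by rw [Ideal.mk_ker]; exact hle)
    have hpos : p ≤ pos ℬ := minimalPrime_le_pos hB (Ideal.IsHomogeneous.bot ℬ) hp
    rw [hsame ⟨M, hM.isPrime⟩ hpM, hht _ (hmapmax M hM hpM), ← hht _ (hmapmax _ hmax hpos),
      ← hsame ⟨_, hmax.isPrime⟩ hpos]
  have hall : ∀ M : Ideal S, M.IsMaximal → M.height = h := fun M hM => by
    obtain ⟨p, hp, hpM⟩ := Ideal.exists_minimalPrimes_le (I := ⊥) (J := M) bot_le
    exact key p hp M hM hpM
  have hdim : ringKrullDim S = (h : WithBot ℕ∞) := by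
    refine le_antisymm ?_ (Ideal.height_le_ringKrullDim_of_ne_top hmax.ne_top)
    refine iSup_le fun l => ?_
    obtain ⟨M, hM, hlM⟩ := Ideal.exists_le_maximal _ l.last.isPrime.ne_top
    refine le_trans (WithBot.coe_le_coe.2 (?_ : (l.length : ℕ∞) ≤ h)) le_rfl
    rw [← hall M hM]
    refine le_trans ?_ (Ideal.height_mono hlM)
    rw [PrimeSpectrum.height_eq_orderHeight]
    exact Order.length_le_height_last
  rw [hall q hq]
  rw [hs] at hdim
  exact (WithBot.coe_inj.1 hdim).symm

/-- A graded Cohen–Macaulay algebra finite over a polynomial ring of the same dimension is flat. -/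
theorem flat_over_params [Algebra.FiniteType k S] [IsCohenMacaulayRing S] (hB : IsStd ℬ) {s : ℕ}
    (hs : ringKrullDim S = s) [Algebra (MvPolynomial (Fin s) k) S]
    [Module.Finite (MvPolynomial (Fin s) k) S] : Module.Flat (MvPolynomial (Fin s) k) S := by
  have : IsNoetherianRing S := Algebra.FiniteType.isNoetherianRing k S
  have := DepthLib.CMPoly.isRegularRing_field k
  set A := MvPolynomial (Fin s) k
  refine Module.flat_of_isLocalized_maximal (R := A) (S := S) (M := S) (fun q _ => Localization.AtPrime q)
    (fun q _ => Algebra.linearMap S (Localization.AtPrime q)) fun q hq => ?_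
  set m := q.comap (algebraMap A S)
  have : Algebra.IsIntegral A S := Algebra.IsIntegral.of_finite A S
  have hm : m.IsMaximal := Ideal.isMaximal_comap_of_isIntegral_of_isMaximal q
  let Am := Localization.AtPrime m
  let Sq := Localization.AtPrime q
  let : Algebra Am Sq := (Localization.localRingHom m q (algebraMap A S) rfl).toAlgebra
  have : IsLocalHom (algebraMap Am Sq) :=
    inferInstanceAs (IsLocalHom (Localization.localRingHom m q (algebraMap A S) rfl))
  have : IsScalarTower A Am Sq := IsScalarTower.of_algebraMap_eq fun x => by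
    rw [RingHom.algebraMap_toAlgebra, Localization.localRingHom_to_map, IsScalarTower.algebraMap_apply A S Sq]
  have := IsCohenMacaulayRing.isCohenMacaulayLocalRing_localization (R := S) q
  have hdA : ringKrullDim Am = (s : WithBot ℕ∞) := by
    obtain ⟨N, hN, hht⟩ := ComodBasic.exists_height_eq_of_isMaximal k A
    rw [IsLocalization.AtPrime.ringKrullDim_eq_height m, hht m hm]
    rw [MvPolynomial.ringKrullDim_of_isNoetherianRing, ringKrullDim_eq_zero_of_field, zero_add] at hN
    simpa using hN.symm
  have hdS : ringKrullDim Sq = (s : WithBot ℕ∞) := by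
    rw [IsLocalization.AtPrime.ringKrullDim_eq_height q, height_eq_of_isMaximal hB hs q]
    rfl
  set J := (IsLocalRing.maximalIdeal Am).map (algebraMap Am Sq)
  have hJ : J ≤ IsLocalRing.maximalIdeal Sq := Ideal.map_le_iff_le_comap.2 fun x hx =>
    map_nonunit (algebraMap Am Sq) x hx
  have hprime : ∀ P : Ideal Sq, P.IsPrime → J ≤ P → P = IsLocalRing.maximalIdeal Sq := by
    intro P hP hle
    have hQ : m ≤ (P.comap (algebraMap S Sq)).comap (algebraMap A S) := fun x hx => by
      rw [Ideal.mem_comap, Ideal.mem_comap, ← IsScalarTower.algebraMap_apply, IsScalarTower.algebraMap_apply A Am Sq]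
      refine hle (Ideal.mem_map_of_mem _ ?_)
      rw [← Localization.AtPrime.map_eq_maximalIdeal]
      exact Ideal.mem_map_of_mem _ hx
    have hQmax : (P.comap (algebraMap S Sq)).IsMaximal :=
      Ideal.isMaximal_of_isIntegral_of_isMaximal_comap _ (by
        rw [← hm.eq_of_le (Ideal.IsPrime.ne_top inferInstance) hQ]; exact hm)
    have hQq : P.comap (algebraMap S Sq) ≤ q := by
      exact le_trans (Ideal.comap_mono (IsLocalRing.le_maximalIdeal hP.ne_top))
        (IsLocalization.AtPrime.under_maximalIdeal Sq q).le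
    have := hQmax.eq_of_le hq.ne_top hQq
    rw [← IsLocalization.map_comap q.primeCompl Sq P]
    change (P.comap (algebraMap S Sq)).map _ = _
    rw [this, Localization.AtPrime.map_eq_maximalIdeal]
  have : Nontrivial (Sq ⧸ J) := Ideal.Quotient.nontrivial_iff.2
    (ne_top_of_le_ne_top (IsLocalRing.maximalIdeal.isMaximal Sq).ne_top hJ)
  have hd0 : ringKrullDim (Sq ⧸ J) = 0 := by
    have : Subsingleton (PrimeSpectrum (Sq ⧸ J)) := ⟨fun a b => PrimeSpectrum.ext
      (Ideal.comap_injective_of_surjective _ Ideal.Quotient.mk_surjective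
        ((hprime _ inferInstance (fun x hx => by simp [Ideal.mem_comap, Ideal.Quotient.eq_zero_iff_mem.2 hx])).trans
          (hprime _ inferInstance (fun x hx => by simp [Ideal.mem_comap, Ideal.Quotient.eq_zero_iff_mem.2 hx])).symm))⟩
    exact le_antisymm Order.krullDim_nonpos_of_subsingleton ringKrullDim_nonneg_of_nontrivial
  have : Module.Flat Am Sq := Miracle.flat _ rfl (by rw [hd0, add_zero, hdA, hdS])
  exact Module.Flat.trans A Am Sq

end Groth.Agent.SegreOne
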