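import Groth.Agent.SegreOne.Main
import Groth.Agent.SegreOne.Params
import Groth.Agent.StdMon.FlatCM
import Mathlib.RingTheory.Flat.Basic
import Mathlib.RingTheory.PrincipalIdealDomain

/-!
# Segre products with a periodic one-dimensional factor
-/

namespace Groth.Agent.SegreOne

open DirectSum SegreDim LocCoh
open scoped TensorProduct

universe u

variable {k : Type u} [Field k]
  {R : Type u} [CommRing R] [Algebra k R] {𝒜 : ℤ → Submodule k R} [GradedAlgebra 𝒜]
  {S : Type u} [CommRing S] [Algebra k S] {ℬ : ℤ → Submodule k S} [GradedAlgebra ℬ]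

/-- In dimension one high degrees are periodic and the pieces are finite dimensional. -/
theorem exists_periodic [Algebra.FiniteType k R] (hA : IsStd 𝒜) (hdim : ringKrullDim R ≤ 1) [Nontrivial R]
    {D : ℤ} (hD : 0 < D) {F : R} (hF : F ∈ 𝒜 D) (hFz : F ∈ nonZeroDivisors R) :
    (∃ M : ℤ, ∀ n, M < n → Full 𝒜 D F n) ∧ ∀ n, FiniteDimensional k (𝒜 n) := by
  classical
  have : IsNoetherianRing R := Algebra.FiniteType.isNoetherianRing k R
  obtain ⟨X, hX, hspan⟩ := hA.exists_spanning (fun _ : Fin 1 => F) hD (fun _ => hF)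
    (by rw [Set.range_const]; exact pos_le_radical hA hdim hF hFz)
  choose deg hdeg using hX
  let M : ℤ := ∑ m ∈ X.attach, (|deg m.1 m.2|)
  have hMle : ∀ m (hm : m ∈ X), deg m hm ≤ M := fun m hm =>
    (le_abs_self _).trans (Finset.single_le_sum (f := fun m : X => |deg m.1 m.2|) (fun _ _ => abs_nonneg _)
      (Finset.mem_attach _ ⟨m, hm⟩))
  constructor
  · refine ⟨M, fun n hn x hx => ?_⟩
    suffices h : ∀ z ∈ Submodule.span k {x : R | ∃ (a : Fin 1 → ℕ), ∃ m ∈ X, x = (∏ i, F ^ a i) * m},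
        ∃ y ∈ 𝒜 (n - D), F * y = (decompose 𝒜 z n : R) by
      obtain ⟨y, hy, he⟩ := h x (hspan ▸ Submodule.mem_top)
      exact ⟨y, hy, by rw [he, decompose_of_mem_same 𝒜 hx]⟩
    intro z hz
    induction hz using Submodule.span_induction with
    | mem z hz =>
      obtain ⟨a, m, hm, rfl⟩ := hz
      rw [Fin.prod_univ_one]
      rcases Nat.eq_zero_or_pos (a 0) with h | h
      · refine ⟨0, zero_mem _, ?_⟩
        rw [h, pow_zero, one_mul, mul_zero,
          decompose_of_mem_ne 𝒜 (hdeg m hm) (show deg m hm ≠ n by have := hMle m hm; omega)]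
      · obtain ⟨j, hj⟩ : ∃ j, a 0 = j + 1 := ⟨a 0 - 1, by omega⟩
        refine ⟨(decompose 𝒜 (F ^ j * m) (n - D) : R), Submodule.coe_mem _, ?_⟩
        rw [← proj_mul _ hF, hj, pow_succ', mul_assoc]
    | zero => exact ⟨0, zero_mem _, by simp⟩
    | add a b _ _ ha hb =>
      obtain ⟨y, hy, he⟩ := ha; obtain ⟨w, hw, he'⟩ := hb
      exact ⟨y + w, add_mem hy hw, by rw [mul_add, he, he', decompose_add, DirectSum.add_apply, Submodule.coe_add]⟩
    | smul c a _ ha =>
      obtain ⟨y, hy, he⟩ := ha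
      refine ⟨c • y, Submodule.smul_mem _ _ hy, ?_⟩
      rw [mul_smul_comm, he, decompose_smul, DirectSum.smul_apply, Submodule.coe_smul]
  · intro n
    -- only finitely many products land in degree `n`
    let N : ℕ := (n + M).toNat + 1
    let gen : Fin N × X → R := fun p => (decompose 𝒜 (F ^ (p.1 : ℕ) * p.2.1) n : R)
    have hle : 𝒜 n ≤ Submodule.span k (Set.range gen) := by
      intro x hx
      rw [← decompose_of_mem_same 𝒜 hx]
      clear hx
      have hx' : x ∈ Submodule.span k {x : R | ∃ (a : Fin 1 → ℕ), ∃ m ∈ X, x = (∏ i, F ^ a i) * m} :=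
        hspan ▸ Submodule.mem_top
      induction hx' using Submodule.span_induction with
      | mem z hz =>
        obtain ⟨a, m, hm, rfl⟩ := hz
        rw [Fin.prod_univ_one]
        by_cases ha : a 0 < N
        · exact Submodule.subset_span ⟨(⟨a 0, ha⟩, ⟨m, hm⟩), rfl⟩
        · rw [decompose_of_mem_ne 𝒜 (SetLike.mul_mem_graded (gpow_mem hF (a 0)) (hdeg m hm))]
          · exact zero_mem _
          · intro h
            have h1 : -M ≤ deg m hm := by
              have := (neg_le_abs (deg m hm)).trans (Finset.single_le_sum (f := fun m : X => |deg m.1 m.2|)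
                (fun _ _ => abs_nonneg _) (Finset.mem_attach _ ⟨m, hm⟩))
              omega
            have h2 : (a 0 : ℤ) ≤ (a 0 : ℤ) * D := by nlinarith
            have h3 : n + M < (a 0 : ℤ) := by omega
            omega
      | zero => simp
      | add a b _ _ ha hb => rw [decompose_add, DirectSum.add_apply, Submodule.coe_add]; exact add_mem ha hb
      | smul c a _ ha => rw [decompose_smul, DirectSum.smul_apply, Submodule.coe_smul]; exact Submodule.smul_mem _ c ha
    have : FiniteDimensional k (Submodule.span k (Set.range gen)) := FiniteDimensional.span_of_finite k (Set.finite_range gen)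
    exact Submodule.finiteDimensional_of_le hle

/-- Iterated periodicity. -/
theorem full_pow {D : ℤ} {F : R} {n : ℤ} (h : ∀ i : ℕ, Full 𝒜 D F (n + (i + 1) * D)) :
    ∀ j : ℕ, Full 𝒜 (j * D) (F ^ j) (n + j * D) := by
  intro j
  induction j with
  | zero => intro x hx; exact ⟨x, by simpa using hx, by simp⟩
  | succ j ih =>
    intro x hx
    obtain ⟨y, hy, rfl⟩ := h j x (by simpa using hx)
    obtain ⟨z, hz, rfl⟩ := ih y (by rwa [show n + ((j : ℤ) + 1) * D - D = n + (j : ℤ) * D by ring] at hy)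
    refine ⟨z, ?_, by rw [pow_succ']; ring⟩
    rwa [add_sub_cancel_right] at hz ⊢

variable {T : Type u} [CommRing T] [Algebra k T] {𝒯 : ℤ → Submodule k T} [GradedAlgebra 𝒯]
  (ψ : T →ₐ[k] R ⊗[k] S) (hψ : Function.Injective ψ)
  (hdeg : ∀ n : ℤ, (𝒯 n).map ψ.toLinearMap = Submodule.span k (diag 𝒜 ℬ n))

omit [Algebra k R] [GradedAlgebra 𝒜] in
theorem piece_ne_bot_up {D : ℤ} {G : S} (hG : G ∈ ℬ D) (hGz : G ∈ nonZeroDivisors S) {n : ℤ} (hn : ℬ n ≠ ⊥) :
    ∀ i : ℕ, ℬ (n + i * D) ≠ ⊥ := by
  intro i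
  obtain ⟨b, hb, hb0⟩ := Submodule.exists_mem_ne_zero_of_ne_bot hn
  refine Submodule.ne_bot_iff _ |>.2 ⟨G ^ i * b, ?_, fun h => hb0 (mem_nonZeroDivisors_iff_left.1 (pow_mem hGz i) _ h)⟩
  rw [add_comm]
  exact SetLike.mul_mem_graded (gpow_mem hG i) hb

include hψ hdeg in
/-- A periodic Segre product is flat and finite over parameters of the second factor. -/
theorem isCohenMacaulayRing_of_periodic [Algebra.FiniteType k R] [Algebra.FiniteType k S]
    [IsCohenMacaulayRing S] [Nontrivial R] (hA : IsStd 𝒜) (hB : IsStd ℬ) (hr : ringKrullDim R ≤ 1)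
    {D : ℕ} (hD : 0 < D) {F : R} (hF : F ∈ 𝒜 (D : ℤ)) (hFz : F ∈ nonZeroDivisors R) {s : ℕ}
    (hs : ringKrullDim S = s) {g : Fin s → S} (hg : ∀ i, g i ∈ ℬ (D : ℤ)) {X : Finset S} (hX : Spans k S S g X)
    {G : S} (hG : G ∈ ℬ (D : ℤ)) (hGz : G ∈ nonZeroDivisors S)
    (hper : ∀ n : ℤ, ℬ n ≠ ⊥ → Full 𝒜 (D : ℤ) F (n + D)) : IsCohenMacaulayRing T := by
  classical
  obtain ⟨⟨M, hM⟩, hfd⟩ := exists_periodic hA hr (by omega) hF hFz
  let A := MvPolynomial (Fin s) k
  choose a ha hae using fun i => exists_tmul ψ hdeg hF (hg i)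
  let : Algebra A T := (MvPolynomial.aeval a).toRingHom.toAlgebra
  let : Algebra A S := (MvPolynomial.aeval g).toRingHom.toAlgebra
  have : IsScalarTower k A T := IsScalarTower.of_algebraMap_eq fun c => ((MvPolynomial.aeval a).commutes c).symm
  have : IsScalarTower k A S := IsScalarTower.of_algebraMap_eq fun c => ((MvPolynomial.aeval g).commutes c).symm
  have hfinS : Module.Finite A S := by
    refine ⟨⟨X, eq_top_iff.2 fun y hyt => ?_⟩⟩
    clear hyt
    have hy : y ∈ Submodule.span k _ := hX ▸ (Submodule.mem_top : y ∈ ⊤)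
    induction hy using Submodule.span_induction with
    | mem y hy =>
      obtain ⟨e, x, hx, rfl⟩ := hy
      rw [show (∏ i, g i ^ e i) • x = (∏ i, (MvPolynomial.X i : A) ^ e i) • x by
        simp [A, Algebra.smul_def, RingHom.algebraMap_toAlgebra]]
      exact Submodule.smul_mem _ _ (Submodule.subset_span hx)
    | zero => exact zero_mem _
    | add a b _ _ ha hb => exact add_mem ha hb
    | smul c y _ hy =>
      rw [← IsScalarTower.algebraMap_smul A c y]
      exact Submodule.smul_mem _ _ hy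
  have hflatS : Module.Flat A S := flat_over_params hB hs
  -- the coefficient space
  let J : ℕ := M.toNat + 1
  let deg : Fin D → ℤ := fun c => ((c : ℕ) : ℤ) + J * D
  let U : Submodule k R := ⨆ c, 𝒜 (deg c)
  have : ∀ c, FiniteDimensional k (𝒜 (deg c)) := fun c => hfd _
  have : FiniteDimensional k U := Submodule.finiteDimensional_iSup _
  have hJ : (M : ℤ) < J := by omega
  have hfullJ : ∀ c : Fin D, ∀ j : ℕ, Full 𝒜 (j * (D : ℤ)) (F ^ j) (deg c + j * D) := fun c =>
    full_pow fun i => hM _ (by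
      have : (J : ℤ) ≤ J * D := by nlinarith
      have : 0 ≤ ((i : ℤ) + 1) * D := by positivity
      simp only [deg]; omega)
  have hfulln : ∀ n, ℬ n ≠ ⊥ → ∀ j : ℕ, Full 𝒜 (j * (D : ℤ)) (F ^ j) (n + j * D) := fun n hn =>
    full_pow fun i => by
      have := hper _ (piece_ne_bot_up hG hGz hn i)
      rwa [add_assoc, show (i : ℤ) * D + D = ((i : ℤ) + 1) * D by ring] at this
  have hlinv : ∀ j : ℕ, ∃ l : R →ₗ[k] R, ∀ x, l (F ^ j * x) = x := fun j => by
    obtain ⟨l, hl⟩ := LinearMap.exists_leftInverse_of_injective (LinearMap.mulLeft k (F ^ j))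
      (LinearMap.ker_eq_bot.2 fun x y h => sub_eq_zero.1
        (mem_nonZeroDivisors_iff_left.1 (pow_mem hFz j) _ (by rw [mul_sub]; exact sub_eq_zero.2 h)))
    exact ⟨l, fun x => LinearMap.congr_fun hl x⟩
  choose lam hlam using hlinv
  let cls : ℤ → Fin D := fun n => ⟨(n % (D : ℤ)).toNat, by
    have := Int.emod_lt_of_pos n (show (0 : ℤ) < D by omega); omega⟩
  let quo : ℤ → ℕ := fun n => (n / (D : ℤ)).toNat
  have hdecn : ∀ n : ℤ, 0 ≤ n → n = ((cls n : ℕ) : ℤ) + quo n * D := fun n hn => by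
    simp only [cls, quo]
    rw [Int.toNat_of_nonneg (Int.emod_nonneg n (by omega)), Int.toNat_of_nonneg (Int.ediv_nonneg hn (by omega))]
    exact (Int.emod_add_ediv_mul n D).symm
  -- the two ways through degree `deg c + j D`
  have hdown : ∀ n, ℬ n ≠ ⊥ → ∀ r ∈ 𝒜 (deg (cls n)), ∃ x ∈ 𝒜 n, F ^ quo n * r = F ^ J * x := by
    intro n hn r hr
    have h0 : 0 ≤ n := by
      by_contra h
      exact hn (hB.neg n (by omega))
    obtain ⟨x, hx, he⟩ := hfulln n hn J (F ^ quo n * r) (by
      have := SetLike.mul_mem_graded (gpow_mem hF (quo n)) hr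
      rwa [show (quo n : ℤ) * D + deg (cls n) = n + J * D by simp only [deg]; linarith [hdecn n h0]] at this)
    exact ⟨x, by rwa [add_sub_cancel_right] at hx, he.symm⟩
  have hup : ∀ n, ℬ n ≠ ⊥ → ∀ x ∈ 𝒜 n, ∃ r ∈ 𝒜 (deg (cls n)), F ^ J * x = F ^ quo n * r := by
    intro n hn x hx
    have h0 : 0 ≤ n := by
      by_contra h
      exact hn (hB.neg n (by omega))
    obtain ⟨r, hr, he⟩ := hfullJ (cls n) (quo n) (F ^ J * x) (by
      have := SetLike.mul_mem_graded (gpow_mem hF J) hx
      rwa [show (J : ℤ) * D + n = deg (cls n) + quo n * D by simp only [deg]; linarith [hdecn n h0]] at this)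
    exact ⟨r, by rwa [add_sub_cancel_right] at hr, he.symm⟩
  obtain ⟨pU, hpU⟩ := LinearMap.exists_leftInverse_of_injective U.subtype (LinearMap.ker_eq_bot.2 U.injective_subtype)
  have hpU' : ∀ r (hr : r ∈ U), pU r = ⟨r, hr⟩ := fun r hr => LinearMap.congr_fun hpU ⟨r, hr⟩
  -- `T → S ⊗ U`
  let ξ : ℤ → R ⊗[k] S →ₗ[k] S ⊗[k] U := fun n => TensorProduct.lift
    ((TensorProduct.mk k S U).flip.comp (pU ∘ₗ lam (quo n) ∘ₗ LinearMap.mulLeft k (F ^ J)))
  let sig : T →ₗ[k] S ⊗[k] U := (DirectSum.toModule k ℤ _ fun n => (ξ n ∘ₗ ψ.toLinearMap) ∘ₗ (𝒯 n).subtype) ∘ₗ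
    (DirectSum.decomposeLinearEquiv 𝒯).toLinearMap
  have hsig : ∀ n, ∀ t ∈ 𝒯 n, sig t = ξ n (ψ t) := fun n t ht => by
    rw [LinearMap.comp_apply, LinearEquiv.coe_coe, decomposeLinearEquiv_apply, decompose_of_mem 𝒯 ht,
      ← DirectSum.lof_eq_of k, DirectSum.toModule_lof]
    rfl
  -- `S ⊗ U → T`
  obtain ⟨w, hw⟩ := LinearMap.exists_leftInverse_of_injective ψ.toLinearMap (LinearMap.ker_eq_bot.2 hψ)
  let θ : S →ₗ[k] U →ₗ[k] T := (DirectSum.toModule k ℤ _ fun n =>
    LinearMap.llcomp k U (R ⊗[k] S) T w ∘ₗ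
      ((LinearMap.lcomp k (R ⊗[k] S) ((lam J ∘ₗ LinearMap.mulLeft k (F ^ quo n) ∘ₗ
        GradedAlgebra.proj 𝒜 (deg (cls n))) ∘ₗ U.subtype)).comp ((TensorProduct.mk k R S).flip ∘ₗ (ℬ n).subtype))) ∘ₗ
    (DirectSum.decomposeLinearEquiv ℬ).toLinearMap
  let Θ : S ⊗[k] U →ₗ[k] T := TensorProduct.lift θ
  have hΘ : ∀ n, ∀ b ∈ ℬ n, ∀ r : U, Θ (b ⊗ₜ[k] r) =
      w (lam J (F ^ quo n * (decompose 𝒜 (r : R) (deg (cls n)) : R)) ⊗ₜ[k] b) := fun n b hb r => by
    rw [TensorProduct.lift.tmul, LinearMap.comp_apply, LinearEquiv.coe_coe, decomposeLinearEquiv_apply,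
      decompose_of_mem ℬ hb, ← DirectSum.lof_eq_of k, DirectSum.toModule_lof]
    rfl
  have hdiag : ∀ n, ∀ t ∈ 𝒯 n, ∀ {P : T → Prop}, (∀ x ∈ 𝒜 n, ∀ b ∈ ℬ n, ∀ t', t' ∈ 𝒯 n → ψ t' = x ⊗ₜ[k] b → P t') →
      P 0 → (∀ u v, u ∈ 𝒯 n → v ∈ 𝒯 n → P u → P v → P (u + v)) → (∀ c : k, ∀ u, u ∈ 𝒯 n → P u → P (c • u)) → P t := by
    intro n t ht P h1 h0 hadd hsmul
    have h : ψ t ∈ Submodule.span k (diag 𝒜 ℬ n) := hdeg n ▸ Submodule.mem_map_of_mem (f := ψ.toLinearMap) ht
    suffices h' : ∀ z ∈ Submodule.span k (diag 𝒜 ℬ n), ∃ u ∈ 𝒯 n, ψ u = z ∧ P u by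
      obtain ⟨u, -, hu, hP⟩ := h' _ h
      exact hψ hu ▸ hP
    intro z hz
    induction hz using Submodule.span_induction with
    | mem z hz =>
      obtain ⟨x, hx, b, hb, rfl⟩ := hz
      obtain ⟨u, hu, hue⟩ := exists_tmul ψ hdeg hx hb
      exact ⟨u, hu, hue, h1 x hx b hb u hu hue⟩
    | zero => exact ⟨0, zero_mem _, map_zero _, h0⟩
    | add a b _ _ ha hb =>
      obtain ⟨u, hu, rfl, hPu⟩ := ha; obtain ⟨v, hv, rfl, hPv⟩ := hb
      exact ⟨u + v, add_mem hu hv, map_add _ _ _, hadd u v hu hv hPu hPv⟩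
    | smul c a _ ha =>
      obtain ⟨u, hu, rfl, hPu⟩ := ha
      exact ⟨c • u, Submodule.smul_mem _ _ hu, map_smul _ _ _, hsmul c u hu hPu⟩
  have hleft : ∀ t, Θ (sig t) = t := by
    intro t
    induction t using DirectSum.Decomposition.inductionOn 𝒯 with
    | zero => simp
    | add a b ha hb => rw [map_add, map_add, ha, hb]
    | @homogeneous n q =>
      refine hdiag n q q.2 (P := fun t => Θ (sig t) = t) (fun x hx b hb t ht hte => ?_) (by simp)
        (fun u v _ _ hu hv => by rw [map_add, map_add, hu, hv]) (fun c u _ hu => by rw [map_smul, map_smul, hu])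
      rw [hsig n t ht, hte]
      rcases eq_or_ne b 0 with rfl | hb0
      · rw [TensorProduct.tmul_zero, map_zero, map_zero]
        exact hψ (by rw [map_zero, hte, TensorProduct.tmul_zero])
      have hn : ℬ n ≠ ⊥ := (Submodule.ne_bot_iff _).2 ⟨b, hb, hb0⟩
      obtain ⟨r, hr, he⟩ := hup n hn x hx
      have hrU : r ∈ U := Submodule.mem_iSup_of_mem _ hr
      have h1 : ξ n (x ⊗ₜ[k] b) = b ⊗ₜ[k] (⟨r, hrU⟩ : U) := by
        change b ⊗ₜ[k] pU (lam (quo n) (F ^ J * x)) = _
        rw [he, hlam, hpU']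
      rw [h1, hΘ n b hb, decompose_of_mem_same 𝒜 hr, ← he, hlam, ← hte]
      exact LinearMap.congr_fun hw t
  have hXi : ∀ (i : Fin s) (t : T), sig (a i * t) = (MvPolynomial.X i : A) • sig t := by
    intro i t
    induction t using DirectSum.Decomposition.inductionOn 𝒯 with
    | zero => simp
    | add u v hu hv => rw [mul_add, map_add, map_add, hu, hv, smul_add]
    | @homogeneous n q =>
      refine hdiag n q q.2 (P := fun t => sig (a i * t) = (MvPolynomial.X i : A) • sig t)
        (fun x hx b hb t ht hte => ?_) (by simp) (fun u v _ _ hu hv => by rw [mul_add, map_add, map_add, hu, hv, smul_add])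
        (fun c u _ hu => by rw [mul_smul_comm, map_smul, map_smul, hu, smul_comm])
      rw [hsig n t ht, hsig _ _ (SetLike.mul_mem_graded (ha i) ht), map_mul, hte, hae, Algebra.TensorProduct.tmul_mul_tmul]
      rcases eq_or_ne b 0 with rfl | hb0
      · rw [mul_zero, TensorProduct.tmul_zero, TensorProduct.tmul_zero, map_zero, map_zero, smul_zero]
      have hn : ℬ n ≠ ⊥ := (Submodule.ne_bot_iff _).2 ⟨b, hb, hb0⟩
      have h0 : 0 ≤ n := by
        by_contra h
        exact hn (hB.neg n (by omega))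
      obtain ⟨r, hr, he⟩ := hup n hn x hx
      have hq : quo ((D : ℤ) + n) = quo n + 1 := by
        simp only [quo]
        rw [add_comm, Int.add_ediv_of_dvd_right dvd_rfl, Int.ediv_self (by omega)]
        have := Int.ediv_nonneg h0 (show (0 : ℤ) ≤ D by omega)
        omega
      change (g i * b) ⊗ₜ[k] pU (lam (quo ((D : ℤ) + n)) (F ^ J * (F * x))) =
        (MvPolynomial.X i : A) • (b ⊗ₜ[k] pU (lam (quo n) (F ^ J * x)))
      rw [hq, mul_left_comm, he, ← mul_assoc, ← pow_succ', hlam, hlam, TensorProduct.smul_tmul', Algebra.smul_def,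
        RingHom.algebraMap_toAlgebra]
      simp
  let sigA : T →ₗ[A] S ⊗[k] U :=
    { toFun := sig
      map_add' := map_add sig
      map_smul' := fun p t => by
        rw [RingHom.id_apply]
        induction p using MvPolynomial.induction_on generalizing t with
        | C c =>
          rw [← MvPolynomial.algebraMap_eq, IsScalarTower.algebraMap_smul, IsScalarTower.algebraMap_smul, map_smul]
        | add p q hp hq => rw [add_smul, map_add, hp, hq, add_smul]
        | mul_X p i hp =>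
          rw [mul_smul, mul_smul, hp, ← hXi, Algebra.smul_def (MvPolynomial.X i : A) t, RingHom.algebraMap_toAlgebra]
          simp }
  -- a retraction
  have hθX : ∀ (i : Fin s) (y : S ⊗[k] U), Θ ((MvPolynomial.X i : A) • y) = a i * Θ y := by
    intro i y
    induction y using TensorProduct.induction_on with
    | zero => simp
    | add u v hu hv => rw [smul_add, map_add, map_add, hu, hv, mul_add]
    | tmul b r =>
      rw [TensorProduct.smul_tmul', Algebra.smul_def, RingHom.algebraMap_toAlgebra]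
      simp only [AlgHom.toRingHom_eq_coe, RingHom.coe_coe, MvPolynomial.aeval_X]
      induction b using DirectSum.Decomposition.inductionOn ℬ with
      | zero => simp
      | add u v hu hv => rw [mul_add, TensorProduct.add_tmul, map_add, TensorProduct.add_tmul, map_add, hu, hv, mul_add]
      | @homogeneous n b =>
        rcases eq_or_ne (b : S) 0 with hb0 | hb0
        · simp [hb0]
        have hn : ℬ n ≠ ⊥ := (Submodule.ne_bot_iff _).2 ⟨b, b.2, hb0⟩
        have h0 : 0 ≤ n := by
          by_contra h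
          exact hn (hB.neg n (by omega))
        have hq : quo ((D : ℤ) + n) = quo n + 1 ∧ cls ((D : ℤ) + n) = cls n := by
          refine ⟨?_, Fin.ext ?_⟩
          · simp only [quo]
            rw [add_comm, Int.add_ediv_of_dvd_right dvd_rfl, Int.ediv_self (by omega)]
            have := Int.ediv_nonneg h0 (show (0 : ℤ) ≤ D by omega)
            omega
          · simp only [cls]
            rw [Int.add_emod_left]
        rw [hΘ _ _ (SetLike.mul_mem_graded (hg i) b.2), hΘ n b b.2, hq.1, hq.2]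
        obtain ⟨x, hx, he⟩ := hdown n hn _ (Submodule.coe_mem (decompose 𝒜 (r : R) (deg (cls n))))
        rw [pow_succ', mul_assoc, he, mul_left_comm, hlam, hlam]
        obtain ⟨u, -, hu⟩ := exists_tmul ψ hdeg hx b.2
        have hwu : ∀ u, w (ψ u) = u := fun u => LinearMap.congr_fun hw u
        rw [← hu, hwu, ← Algebra.TensorProduct.tmul_mul_tmul, ← hae, ← hu, ← map_mul, hwu]
  let ΘA : S ⊗[k] U →ₗ[A] T :=
    { toFun := Θ
      map_add' := map_add Θ
      map_smul' := fun p y => by
        rw [RingHom.id_apply]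
        induction p using MvPolynomial.induction_on generalizing y with
        | C c =>
          rw [← MvPolynomial.algebraMap_eq, IsScalarTower.algebraMap_smul, IsScalarTower.algebraMap_smul, map_smul]
        | add p q hp hq => rw [add_smul, map_add, hp, hq, add_smul]
        | mul_X p i hp =>
          rw [mul_smul, mul_smul, hp, hθX, Algebra.smul_def (MvPolynomial.X i : A) (Θ y), RingHom.algebraMap_toAlgebra]
          simp }
  have hcomp : ΘA.comp sigA = LinearMap.id := LinearMap.ext hleft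
  have : Module.Finite A (S ⊗[k] U) := Module.Finite.trans S (S ⊗[k] U)
  have : Module.Flat A T := Module.Flat.of_retract sigA ΘA hcomp
  have : Module.Finite A T := Module.Finite.of_surjective ΘA fun t => ⟨sig t, hleft t⟩
  have := StdMon.isCohenMacaulayRing_mvPolynomial_field k s
  exact StdMon.isCohenMacaulayRing_of_flat_finite A T

include hψ hdeg in
/-- A one-dimensional Segre product is Cohen–Macaulay. -/
theorem isCohenMacaulayRing_dim_one [Algebra.FiniteType k R] [Algebra.FiniteType k S]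
    [Nontrivial R] [Nontrivial S] (hA : IsStd 𝒜) (hB : IsStd ℬ) (hr : ringKrullDim R ≤ 1) (hs : ringKrullDim S ≤ 1)
    {D : ℤ} (hD : 0 < D) {F : R} (hF : F ∈ 𝒜 D) (hFz : F ∈ nonZeroDivisors R)
    {G : S} (hG : G ∈ ℬ D) (hGz : G ∈ nonZeroDivisors S) : IsCohenMacaulayRing T := by
  classical
  have hT := isStd ψ hψ hdeg hA hB
  obtain ⟨⟨MR, hMR⟩, hfdR⟩ := exists_periodic hA hr hD hF hFz
  obtain ⟨⟨MS, hMS⟩, hfdS⟩ := exists_periodic hB hs hD hG hGz
  obtain ⟨a₀, ha₀, ha₀e⟩ := exists_tmul ψ hdeg hF hG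
  have hz := mem_nonZeroDivisors_of_tmul ψ hψ hFz hGz ha₀e
  set M := max (max MR MS) 0
  have hfd : ∀ n, (𝒯 n).FG := fun n => by
    have : (Submodule.span k (diag 𝒜 ℬ n)).FG := by
      have hsub : Submodule.span k (diag 𝒜 ℬ n) =
          Submodule.map₂ (TensorProduct.mk k R S) (𝒜 n) (ℬ n) := by
        rw [Submodule.map₂_eq_span_image2]
        congr 1
        ext x
        exact ⟨fun ⟨a, ha, b, hb, e⟩ => ⟨a, ha, b, hb, e.symm⟩, fun ⟨a, ha, b, hb, e⟩ => ⟨a, ha, b, hb, e.symm⟩⟩
      rw [hsub]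
      exact Submodule.FG.map₂ _ (Module.Finite.iff_fg.1 (hfdR n)) (Module.Finite.iff_fg.1 (hfdS n))
    exact Submodule.fg_of_fg_map_injective ψ.toLinearMap hψ (hdeg n ▸ this)
  let A := Polynomial k
  let : Algebra A T := (Polynomial.aeval a₀).toRingHom.toAlgebra
  have : IsScalarTower k A T := IsScalarTower.of_algebraMap_eq fun c => ((Polynomial.aeval a₀).commutes c).symm
  have hfin : Module.Finite A T := by
    choose G' hG' using hfd
    refine ⟨⟨(Finset.Icc 0 M).biUnion G', eq_top_iff.2 fun t _ => ?_⟩⟩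
    rw [← DirectSum.sum_support_decompose 𝒯 t]
    refine sum_mem fun n hns => ?_
    clear hns
    generalize (decompose 𝒯 t n) = q
    obtain ⟨j, rfl⟩ | hn : (∃ j : ℕ, n = (j : ℤ)) ∨ n < 0 := by
      rcases lt_or_ge n 0 with h | h
      · exact Or.inr h
      · exact Or.inl ⟨n.toNat, by omega⟩
    · induction j using Nat.strong_induction_on with
      | _ j ih =>
        by_cases hj : (j : ℤ) ≤ M
        · have hq : (q : T) ∈ Submodule.span k (G' j : Set T) := (hG' j).symm ▸ q.2
          refine Submodule.span_le_restrictScalars k A _ (Submodule.span_mono ?_ hq)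
          exact Finset.coe_subset.2 (Finset.subset_biUnion_of_mem G' (Finset.mem_Icc.2 ⟨by omega, hj⟩))
        · obtain ⟨y, hy, hye⟩ := full_segre ψ hψ hdeg ha₀e (hMR j (by omega)) (hMS j (by omega)) q q.2
          rw [← hye]
          rcases lt_or_ge ((j : ℤ) - D) 0 with h | h
          · rw [hT.eq_zero h hy, mul_zero]; exact zero_mem _
          · obtain ⟨j', hj'⟩ : ∃ j' : ℕ, (j : ℤ) - D = (j' : ℤ) := ⟨((j : ℤ) - D).toNat, by omega⟩
            have := ih j' (by omega) ⟨y, hj' ▸ hy⟩
            have h' := Submodule.smul_mem _ (Polynomial.X : A) this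
            rwa [Algebra.smul_def, RingHom.algebraMap_toAlgebra, AlgHom.toRingHom_eq_coe, RingHom.coe_coe,
              Polynomial.aeval_X] at h'
    · rw [hT.eq_zero hn q.2]; exact zero_mem _
  have : Module.IsTorsionFree A T := by
    refine ⟨fun p hp => ?_⟩
    have hp0 : p ≠ 0 := IsRegular.ne_zero hp
    intro x y hxy
    have h0 : p • (x - y) = 0 := by rw [smul_sub]; exact sub_eq_zero.2 hxy
    by_contra hne
    -- lowest component
    have hz0 : x - y ≠ 0 := sub_ne_zero.2 hne
    generalize x - y = z at h0 hz0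
    obtain ⟨q, hq, hdvd⟩ : ∃ q : Polynomial k, p = Polynomial.X ^ p.natTrailingDegree * q ∧ q.coeff 0 ≠ 0 := by
      obtain ⟨q, hq, hnd⟩ := Polynomial.exists_eq_pow_rootMultiplicity_mul_and_not_dvd p hp0 0
      rw [Polynomial.C_0, sub_zero] at hq hnd
      refine ⟨q, ?_, fun h => hnd (Polynomial.X_dvd_iff.2 h)⟩
      rwa [← Polynomial.rootMultiplicity_eq_natTrailingDegree']
    rw [hq, mul_smul, Algebra.smul_def, RingHom.algebraMap_toAlgebra] at h0
    simp only [AlgHom.toRingHom_eq_coe, RingHom.coe_coe, map_pow, Polynomial.aeval_X] at h0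
    rw [Polynomial.aeval_X] at h0
    have h1 := mem_nonZeroDivisors_iff_left.1 (pow_mem hz _) _ h0
    rw [Algebra.smul_def, RingHom.algebraMap_toAlgebra] at h1
    simp only [AlgHom.toRingHom_eq_coe, RingHom.coe_coe] at h1
    obtain ⟨n, hn, hmin⟩ : ∃ n, (decompose 𝒯 z n : T) ≠ 0 ∧ ∀ m < n, (decompose 𝒯 z m : T) = 0 := by
      have hne' : (decompose 𝒯 z).support.Nonempty := by
        rw [Finset.nonempty_iff_ne_empty]
        intro h
        refine hz0 ?_
        rw [← DirectSum.sum_support_decompose 𝒯 z, h, Finset.sum_empty]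
      refine ⟨(decompose 𝒯 z).support.min' hne', ?_, fun m hm => ?_⟩
      · exact fun h => DFinsupp.mem_support_iff.1 (Finset.min'_mem _ hne') (Subtype.ext h)
      · by_contra h
        exact absurd (Finset.min'_le _ m (DFinsupp.mem_support_iff.2 fun e => h (congrArg Subtype.val e))) (not_le.2 hm)
    have h2 := congrArg (GradedRing.proj 𝒯 n) h1
    rw [Polynomial.aeval_eq_sum_range, Finset.sum_mul, map_sum, map_zero, Finset.sum_eq_single 0] at h2
    · rw [smul_mul_assoc, pow_zero, one_mul, GradedRing.proj_apply, decompose_smul, DirectSum.smul_apply,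
        Submodule.coe_smul, smul_eq_zero] at h2
      exact hn (h2.resolve_left hdvd)
    · intro b _ hb
      rw [smul_mul_assoc, GradedRing.proj_apply, decompose_smul, DirectSum.smul_apply, Submodule.coe_smul,
        proj_mul z (gpow_mem ha₀ b), hmin _ (by have : 0 < (b : ℤ) * D := mul_pos (by omega) hD; omega),
        mul_zero, smul_zero]
    · intro h; simp at h
  have : Module.Flat A T := inferInstance
  have := StdMon.isCohenMacaulayRing_mvPolynomial_field k 1
  have : IsCohenMacaulayRing A := Catenary.isCohenMacaulayRing_of_ringEquiv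
    (A := MvPolynomial (Fin 1) k) (MvPolynomial.uniqueAlgEquiv k (Fin 1)).toRingEquiv
  exact StdMon.isCohenMacaulayRing_of_flat_finite A T

end Groth.Agent.SegreOne
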