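import Groth.Agent.SegreOne.Poly
import Groth.Agent.SegreOne.Socle
import Groth.Agent.StdMon.CMQuot
import Mathlib.LinearAlgebra.Dual.Lemmas

/-!
# Segre products with a one-dimensional factor
-/

namespace Groth.Agent.SegreOne

open DirectSum SegreDim LocCoh
open scoped TensorProduct

universe u

variable {k : Type u} [Field k]
  {R : Type u} [CommRing R] [Algebra k R] {𝒜 : ℤ → Submodule k R} [GradedAlgebra 𝒜]
  {S : Type u} [CommRing S] [Algebra k S] {ℬ : ℤ → Submodule k S} [GradedAlgebra ℬ]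

/-- Contract the first tensor factor. -/
noncomputable def contractL (χ : R →ₗ[k] k) : R ⊗[k] S →ₗ[k] S :=
  TensorProduct.lift ((LinearMap.lsmul k S).comp χ)

@[simp] theorem contractL_tmul (χ : R →ₗ[k] k) (a : R) (b : S) : contractL χ (a ⊗ₜ[k] b) = χ a • b := rfl

/-- Contract the second tensor factor. -/
noncomputable def contractR (χ : S →ₗ[k] k) : R ⊗[k] S →ₗ[k] R :=
  TensorProduct.lift ((LinearMap.lsmul k R).comp χ).flip

@[simp] theorem contractR_tmul (χ : S →ₗ[k] k) (a : R) (b : S) : contractR χ (a ⊗ₜ[k] b) = χ b • a := rfl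

theorem tmul_regular {f : R} {g : S} (hf : f ∈ nonZeroDivisors R) (hg : g ∈ nonZeroDivisors S)
    {z : R ⊗[k] S} (h : (f ⊗ₜ[k] g) * z = 0) : z = 0 := by
  have h1 : Function.Injective (LinearMap.rTensor S (LinearMap.mulLeft k f)) :=
    Module.Flat.rTensor_preserves_injective_linearMap _ fun a b hab =>
      sub_eq_zero.1 (mem_nonZeroDivisors_iff_left.1 hf _ (by rw [mul_sub]; exact sub_eq_zero.2 hab))
  have h2 : Function.Injective (LinearMap.lTensor R (LinearMap.mulLeft k g)) :=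
    Module.Flat.lTensor_preserves_injective_linearMap _ fun a b hab =>
      sub_eq_zero.1 (mem_nonZeroDivisors_iff_left.1 hg _ (by rw [mul_sub]; exact sub_eq_zero.2 hab))
  have key : ∀ w : R ⊗[k] S, (f ⊗ₜ[k] g) * w =
      LinearMap.rTensor S (LinearMap.mulLeft k f) (LinearMap.lTensor R (LinearMap.mulLeft k g) w) := fun w => by
    induction w using TensorProduct.induction_on with
    | zero => simp
    | add x y hx hy => rw [mul_add, hx, hy, map_add, map_add]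
    | tmul a b => simp
  rw [key] at h
  exact h2 ((h1 (h.trans (map_zero _).symm)).trans (map_zero _).symm)

variable {T : Type u} [CommRing T] [Algebra k T] {𝒯 : ℤ → Submodule k T} [GradedAlgebra 𝒯]
  (ψ : T →ₐ[k] R ⊗[k] S) (hψ : Function.Injective ψ)
  (hdeg : ∀ n : ℤ, (𝒯 n).map ψ.toLinearMap = Submodule.span k (diag 𝒜 ℬ n))

include hdeg in
theorem exists_tmul {n : ℤ} {a : R} {b : S} (ha : a ∈ 𝒜 n) (hb : b ∈ ℬ n) :
    ∃ t ∈ 𝒯 n, ψ t = a ⊗ₜ[k] b := by
  have h : a ⊗ₜ[k] b ∈ (𝒯 n).map ψ.toLinearMap := by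
    rw [hdeg]; exact Submodule.subset_span ⟨a, ha, b, hb, rfl⟩
  obtain ⟨t, ht, h⟩ := h
  exact ⟨t, ht, h⟩

include hψ hdeg in
theorem isStd (hA : IsStd 𝒜) : IsStd ℬ → IsStd 𝒯 := fun hB => by
  refine ⟨fun n hn => ?_, ?_⟩
  · refine Submodule.map_injective_of_injective (f := ψ.toLinearMap) hψ ?_
    rw [hdeg, Submodule.map_bot, Submodule.span_eq_bot]
    rintro x ⟨a, ha, b, -, rfl⟩
    rw [hA.eq_zero hn ha, TensorProduct.zero_tmul]
  · refine Submodule.map_injective_of_injective (f := ψ.toLinearMap) hψ ?_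
    rw [hdeg, Submodule.map_span, Set.image_singleton]
    refine le_antisymm (Submodule.span_le.2 ?_) (Submodule.span_le.2 ?_)
    · rintro x ⟨a, ha, b, hb, rfl⟩
      obtain ⟨c, rfl⟩ := hA.exists_scalar ha
      obtain ⟨c', rfl⟩ := hB.exists_scalar hb
      exact Submodule.mem_span_singleton.2 ⟨c * c', by
        rw [TensorProduct.tmul_smul, ← TensorProduct.smul_tmul', smul_smul, mul_comm c c']
        simp [Algebra.TensorProduct.one_def]⟩
    · rintro x rfl
      refine Submodule.subset_span ⟨1, SetLike.one_mem_graded 𝒜, 1, SetLike.one_mem_graded ℬ, ?_⟩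
      simp [Algebra.TensorProduct.one_def]

include hψ hdeg in
theorem full_segre {e : ℤ} {f : R} {g : S} {a₀ : T} (ha₀ : ψ a₀ = f ⊗ₜ[k] g) {n : ℤ}
    (hR : Full 𝒜 e f n) (hS : Full ℬ e g n) : Full 𝒯 e a₀ n := by
  intro x hx
  have h : ψ x ∈ Submodule.span k (diag 𝒜 ℬ n) := hdeg n ▸ Submodule.mem_map_of_mem (f := ψ.toLinearMap) hx
  suffices h' : ∀ z ∈ Submodule.span k (diag 𝒜 ℬ n), ∃ y ∈ 𝒯 (n - e), ψ (a₀ * y) = z by
    obtain ⟨y, hy, he⟩ := h' _ h
    exact ⟨y, hy, hψ he⟩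
  intro z hz
  induction hz using Submodule.span_induction with
  | mem w hw =>
    obtain ⟨a, ha, b, hb, rfl⟩ := hw
    obtain ⟨a', ha', rfl⟩ := hR a ha
    obtain ⟨b', hb', rfl⟩ := hS b hb
    obtain ⟨t, ht, h⟩ := exists_tmul ψ hdeg ha' hb'
    exact ⟨t, ht, by rw [map_mul, ha₀, h, Algebra.TensorProduct.tmul_mul_tmul]⟩
  | zero => exact ⟨0, zero_mem _, by simp⟩
  | add a b _ _ ha hb =>
    obtain ⟨y, hy, rfl⟩ := ha
    obtain ⟨w, hw, rfl⟩ := hb
    exact ⟨y + w, add_mem hy hw, by rw [mul_add, map_add]⟩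
  | smul c a _ ha =>
    obtain ⟨y, hy, rfl⟩ := ha
    exact ⟨c • y, Submodule.smul_mem _ _ hy, by rw [mul_smul_comm, map_smul]⟩

include hdeg in
/-- Linear forms vanishing on `a₀ T` in degree `N`. -/
theorem contract_eq_zero {M : Type u} [AddCommGroup M] [Module k M] (L : R ⊗[k] S →ₗ[k] M) {e N : ℤ}
    {f : R} {g : S} {a₀ : T} (ha₀ : a₀ ∈ 𝒯 e) (ha₀e : ψ a₀ = f ⊗ₜ[k] g)
    (hL : ∀ a ∈ 𝒜 (N - e), ∀ b ∈ ℬ (N - e), L ((f * a) ⊗ₜ[k] (g * b)) = 0)
    {x : T} (hx : x ∈ 𝒯 N) (hxI : x ∈ Ideal.span {a₀}) : L (ψ x) = 0 := by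
  obtain ⟨t, rfl⟩ := Ideal.mem_span_singleton.1 hxI
  rw [← decompose_of_mem_same 𝒯 hx, proj_mul t ha₀, map_mul, ha₀e]
  have h : ψ (decompose 𝒯 t (N - e) : T) ∈ Submodule.span k (diag 𝒜 ℬ (N - e)) :=
    hdeg (N - e) ▸ Submodule.mem_map_of_mem (f := ψ.toLinearMap) (Submodule.coe_mem _)
  generalize ψ (decompose 𝒯 t (N - e) : T) = z at h ⊢
  induction h using Submodule.span_induction with
  | mem w hw =>
    obtain ⟨a, ha, b, hb, rfl⟩ := hw
    rw [Algebra.TensorProduct.tmul_mul_tmul]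
    exact hL a ha b hb
  | zero => simp
  | add a b _ _ ha hb => rw [mul_add, map_add, ha, hb, add_zero]
  | smul c a _ ha => rw [mul_smul_comm, map_smul, ha, smul_zero]

theorem exists_functional {V : Type u} [AddCommGroup V] [Module k V] {p : Submodule k V} {x : V} (hx : x ∉ p) :
    ∃ χ : V →ₗ[k] k, χ x = 1 ∧ ∀ y ∈ p, χ y = 0 := by
  obtain ⟨χ, hχ, hp⟩ := Submodule.exists_dual_map_eq_bot_of_notMem hx inferInstance
  refine ⟨(χ x)⁻¹ • χ, by simp [inv_mul_cancel₀ hχ], fun y hy => ?_⟩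
  have : χ y = 0 := by
    have := Submodule.mem_map_of_mem (f := χ) hy
    rwa [hp, Submodule.mem_bot] at this
  simp [this]

include hdeg in
/-- Two elements in degree `N` independent modulo `a₀ T`. -/
theorem exists_pair_left {e N : ℤ} {f : R} {g : S} {a₀ : T} (ha₀ : a₀ ∈ 𝒯 e) (ha₀e : ψ a₀ = f ⊗ₜ[k] g)
    {r : R} (hr : r ∈ 𝒜 N) (hrf : ¬∃ y ∈ 𝒜 (N - e), f * y = r) {s s' : S} (hs : s ∈ ℬ N) (hs' : s' ∈ ℬ N)
    (hind : LinearIndependent k ![s, s']) :
    ∃ u ∈ 𝒯 N, ∃ v ∈ 𝒯 N, ∀ c c' : k, c • u + c' • v ∈ Ideal.span {a₀} → c = 0 ∧ c' = 0 := by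
  obtain ⟨χ, hχ1, hχ0⟩ := exists_functional (p := (𝒜 (N - e)).map (LinearMap.mulLeft k f)) (x := r)
    (fun h => hrf (Submodule.mem_map.1 h))
  obtain ⟨u, hu, hue⟩ := exists_tmul ψ hdeg hr hs
  obtain ⟨v, hv, hve⟩ := exists_tmul ψ hdeg hr hs'
  refine ⟨u, hu, v, hv, fun c c' h => ?_⟩
  have h0 := contract_eq_zero ψ hdeg (contractL χ) ha₀ ha₀e (fun a ha b _ => by
    rw [contractL_tmul, hχ0 (f * a) (Submodule.mem_map_of_mem (f := LinearMap.mulLeft k f) ha), zero_smul])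
    (add_mem (Submodule.smul_mem _ c hu) (Submodule.smul_mem _ c' hv)) h
  simp only [map_add, map_smul, hue, hve, contractL_tmul, hχ1, one_smul] at h0
  exact LinearIndependent.pair_iff.1 hind c c' h0

include hdeg in
theorem exists_pair_right {e N : ℤ} {f : R} {g : S} {a₀ : T} (ha₀ : a₀ ∈ 𝒯 e) (ha₀e : ψ a₀ = f ⊗ₜ[k] g)
    {s : S} (hs : s ∈ ℬ N) (hsg : ¬∃ y ∈ ℬ (N - e), g * y = s) {r r' : R} (hr : r ∈ 𝒜 N) (hr' : r' ∈ 𝒜 N)
    (hind : LinearIndependent k ![r, r']) :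
    ∃ u ∈ 𝒯 N, ∃ v ∈ 𝒯 N, ∀ c c' : k, c • u + c' • v ∈ Ideal.span {a₀} → c = 0 ∧ c' = 0 := by
  obtain ⟨χ, hχ1, hχ0⟩ := exists_functional (p := (ℬ (N - e)).map (LinearMap.mulLeft k g)) (x := s)
    (fun h => hsg (Submodule.mem_map.1 h))
  obtain ⟨u, hu, hue⟩ := exists_tmul ψ hdeg hr hs
  obtain ⟨v, hv, hve⟩ := exists_tmul ψ hdeg hr' hs
  refine ⟨u, hu, v, hv, fun c c' h => ?_⟩
  have h0 := contract_eq_zero ψ hdeg (contractR χ) ha₀ ha₀e (fun a _ b hb => by
    rw [contractR_tmul, hχ0 (g * b) (Submodule.mem_map_of_mem (f := LinearMap.mulLeft k g) hb), zero_smul])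
    (add_mem (Submodule.smul_mem _ c hu) (Submodule.smul_mem _ c' hv)) h
  simp only [map_add, map_smul, hue, hve, contractR_tmul, hχ1, one_smul] at h0
  exact LinearIndependent.pair_iff.1 hind c c' h0

omit [Algebra k R] [GradedAlgebra 𝒜] in
theorem pow_mem_of_mem {n : ℤ} {x : T} (hn : 0 < n) (hx : x ∈ 𝒯 n) (M : ℤ) :
    ∃ j : ℕ, ∃ m : ℤ, M < m ∧ x ^ j ∈ 𝒯 m :=
  ⟨M.toNat + 1, ((M.toNat + 1 : ℕ) : ℤ) * n,
    lt_of_lt_of_le (by omega : M < ((M.toNat + 1 : ℕ) : ℤ)) (by nlinarith), gpow_mem hx _⟩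

omit [Algebra k R] [GradedAlgebra 𝒜] in
theorem pos_le_radical_of_full {e M : ℤ} {a₀ : T} (h : ∀ n, M < n → Full 𝒯 e a₀ n) :
    pos 𝒯 ≤ (Ideal.span {a₀}).radical := by
  rw [pos, Ideal.span_le]
  rintro x ⟨n, hn, hx⟩
  obtain ⟨j, m, hm, hxj⟩ := pow_mem_of_mem hn hx M
  obtain ⟨y, -, hy⟩ := h m hm _ hxj
  exact ⟨j, hy ▸ Ideal.mul_mem_right _ _ (Ideal.mem_span_singleton_self a₀)⟩

theorem pos_smul_mem {e N : ℤ} {a₀ : T} (h : ∀ n, N < n → Full 𝒯 e a₀ n) {w : T} (hw : w ∈ 𝒯 N) {x : T}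
    (hx : x ∈ pos 𝒯) : x * w ∈ Ideal.span {a₀} := by
  have : pos 𝒯 ≤ Submodule.comap (LinearMap.mulRight T w) (Ideal.span {a₀}) := by
    rw [pos, Ideal.span_le]
    rintro y ⟨n, hn, hy⟩
    obtain ⟨z, -, hz⟩ := h _ (by omega : N < n + N) _ (SetLike.mul_mem_graded hy hw)
    change y * w ∈ Ideal.span {a₀}
    rw [← hz]
    exact Ideal.mul_mem_right _ _ (Ideal.mem_span_singleton_self a₀)
  exact this hx

theorem mem_of_mul_mem (hT : IsStd 𝒯) {I : Ideal T} {σ w : T} (hσ : σ ∉ pos 𝒯)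
    (hkill : ∀ x ∈ pos 𝒯, x * w ∈ I) (h : σ * w ∈ I) : w ∈ I := by
  obtain ⟨c, hc⟩ := hT.exists_scalar (Submodule.coe_mem (decompose 𝒯 σ 0))
  have hπ := hT.sub_mem_pos σ
  have hc0 : c ≠ 0 := fun h0 => hσ (by rwa [← hc, h0, zero_smul, sub_zero] at hπ)
  have h1 := sub_mem h (hkill _ hπ)
  rw [← sub_mul, sub_sub_cancel, ← hc, smul_mul_assoc, one_mul] at h1
  have h2 := Submodule.smul_of_tower_mem I c⁻¹ h1
  rwa [smul_smul, inv_mul_cancel₀ hc0, one_smul] at h2

/-- A Gorenstein graded ring has no two independent socle elements in one degree of `T/aT`. -/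
theorem not_pair_socle [IsGorensteinRing T] [Nontrivial T] (hT : IsStd 𝒯) {a₀ u v : T} (ha₀ : a₀ ∈ nonZeroDivisors T)
    (hrad : pos 𝒯 ≤ (Ideal.span {a₀}).radical)
    (hu : ∀ x ∈ pos 𝒯, x * u ∈ Ideal.span {a₀}) (hv : ∀ x ∈ pos 𝒯, x * v ∈ Ideal.span {a₀})
    (hind : ∀ c c' : k, c • u + c' • v ∈ Ideal.span {a₀} → c = 0 ∧ c' = 0) : False := by
  classical
  set p := pos 𝒯
  have hmax : p.IsMaximal := hT.isMaximal_pos
  have := hmax.isPrime
  let A := Localization.AtPrime p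
  have := LocCoh.IsGorensteinRing.isGorensteinLocalRing_localization (A := T) p
  let α : A := algebraMap T A a₀
  have hα : α ∈ nonZeroDivisors A :=
    IsLocalization.map_nonZeroDivisors_le p.primeCompl A (Submonoid.mem_map_of_mem _ ha₀)
  obtain ⟨M, hM⟩ := Ideal.exists_pow_le_of_le_radical_of_fg hrad (IsNoetherian.noetherian _)
  have hlen : IsFiniteLength A (A ⧸ Ideal.span {α}) := by
    have hα' : α ∈ IsLocalRing.maximalIdeal A := by
      rw [← Localization.AtPrime.map_eq_maximalIdeal]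
      refine Ideal.mem_map_of_mem _ ?_
      by_contra hne
      have := mem_of_mul_mem (I := Ideal.span {a₀}) (w := u) hT hne hu
        (Ideal.mul_mem_right _ _ (Ideal.mem_span_singleton_self a₀))
      exact one_ne_zero ((hind 1 0 (by simpa using this)).1)
    have : Nontrivial (A ⧸ Ideal.span {α}) := Ideal.Quotient.nontrivial_iff.2
      (ne_top_of_le_ne_top (IsLocalRing.maximalIdeal.isMaximal A).ne_top
        ((Ideal.span_singleton_le_iff_mem _).2 hα'))
    have : IsLocalRing (A ⧸ Ideal.span {α}) :=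
      IsLocalRing.of_surjective' (Ideal.Quotient.mk _) Ideal.Quotient.mk_surjective
    have : IsArtinianRing (A ⧸ Ideal.span {α}) := by
      rw [isArtinianRing_iff_isNilpotent_maximalIdeal]
      refine ⟨M, ?_⟩
      rw [← IsLocalRing.map_maximalIdeal_of_surjective _ Ideal.Quotient.mk_surjective, ← Ideal.map_pow,
        Ideal.zero_eq_bot, Ideal.map_eq_bot_iff_le_ker, Ideal.mk_ker, ← Localization.AtPrime.map_eq_maximalIdeal,
        ← Ideal.map_pow]
      exact (Ideal.map_mono hM).trans (by rw [Ideal.map_span, Set.image_singleton])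
    rw [isFiniteLength_iff_isNoetherian_isArtinian]
    exact ⟨inferInstance, isArtinian_of_surjective_algebraMap (S := A) (R := A ⧸ Ideal.span {α})
      Ideal.Quotient.mk_surjective⟩
  let q : T → A ⧸ Ideal.span {α} := fun t => Ideal.Quotient.mk _ (algebraMap T A t)
  have hsoc : ∀ w : T, (∀ x ∈ p, x * w ∈ Ideal.span {a₀}) → ∀ y ∈ IsLocalRing.maximalIdeal A, y • q w = 0 := by
    intro w hw y hy
    rw [← Localization.AtPrime.map_eq_maximalIdeal] at hy
    have hle : p.map (algebraMap T A) ≤ Submodule.comap (LinearMap.mulRight A (algebraMap T A w)) (Ideal.span {α}) := by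
      refine Ideal.map_le_iff_le_comap.2 fun x hx => ?_
      change algebraMap T A x * algebraMap T A w ∈ Ideal.span {α}
      rw [← map_mul, show Ideal.span {α} = (Ideal.span {a₀}).map (algebraMap T A) by
        rw [Ideal.map_span, Set.image_singleton]]
      exact Ideal.mem_map_of_mem _ (hw x hx)
    change Ideal.Quotient.mk _ (y * algebraMap T A w) = 0
    exact Ideal.Quotient.eq_zero_iff_mem.2 (hle hy)
  have hdesc : ∀ w : T, (∀ x ∈ p, x * w ∈ Ideal.span {a₀}) → algebraMap T A w ∈ Ideal.span {α} →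
      w ∈ Ideal.span {a₀} := by
    intro w hw h
    rw [show Ideal.span {α} = (Ideal.span {a₀}).map (algebraMap T A) by
        rw [Ideal.map_span, Set.image_singleton],
      IsLocalization.algebraMap_mem_map_algebraMap_iff p.primeCompl] at h
    obtain ⟨σ, hσ, hσw⟩ := h
    exact mem_of_mul_mem hT hσ hw hσw
  have hu0 : q u ≠ 0 := fun h => by
    have := hdesc u hu (Ideal.Quotient.eq_zero_iff_mem.1 h)
    exact one_ne_zero ((hind 1 0 (by simpa using this)).1)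
  obtain ⟨b, hb⟩ := exists_smul_eq_of_mem_socle hα hlen hu0 (hsoc u hu) (hsoc v hv)
  obtain ⟨t, s, rfl⟩ := IsLocalization.exists_mk'_eq p.primeCompl b
  have hmem : algebraMap T A ((s : T) * v - t * u) ∈ Ideal.span {α} := by
    rw [← Ideal.Quotient.eq_zero_iff_mem, map_sub, map_sub, sub_eq_zero, map_mul, map_mul, map_mul]
    change Ideal.Quotient.mk _ (algebraMap T A s) * q v = _
    rw [← hb, Algebra.smul_def, ← mul_assoc]
    change Ideal.Quotient.mk _ (algebraMap T A s) * Ideal.Quotient.mk _ _ * q u = _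
    rw [← map_mul, IsLocalization.mk'_spec', map_mul]
  have hw : ∀ x ∈ p, x * ((s : T) * v - t * u) ∈ Ideal.span {a₀} := fun x hx => by
    rw [mul_sub, mul_left_comm, mul_left_comm x t]
    exact sub_mem (Ideal.mul_mem_left _ _ (hv x hx)) (Ideal.mul_mem_left _ _ (hu x hx))
  have h := hdesc _ hw hmem
  obtain ⟨c, hc⟩ := hT.exists_scalar (Submodule.coe_mem (decompose 𝒯 (s : T) 0))
  obtain ⟨c', hc'⟩ := hT.exists_scalar (Submodule.coe_mem (decompose 𝒯 t 0))
  have h1 := hv _ (hT.sub_mem_pos (s : T))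
  have h2 := hu _ (hT.sub_mem_pos t)
  have h3 : (-c') • u + c • v ∈ Ideal.span {a₀} := by
    have h4 := add_mem (sub_mem h h1) h2
    rw [← hc, ← hc'] at h4
    convert h4 using 1
    simp only [sub_mul, smul_mul_assoc, one_mul, neg_smul]
    abel
  refine s.2 ?_
  have := hT.sub_mem_pos (s : T)
  rwa [← hc, (hind _ _ h3).2, zero_smul, sub_zero] at this

end Groth.Agent.SegreOne
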